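import Cfsg.Agent.H9.E6.Crit

/-! The criterion for the prime 19. -/

set_option autoImplicit false
set_option maxRecDepth 100000
set_option linter.unusedSectionVars false

namespace Cfsg.Agent.H9.E6

open Cfsg.Lie Cfsg.Agent.H4 Cfsg.Agent.H4.Bit Cfsg.Agent.H4.E27 Matrix

def HH (h : ℕ → P2) (a : ℕ) : P2 := (comb (fun k => (h k).1) 6 a, comb (fun k => (h k).2) 6 a)

def chkA (X : P2) (h : ℕ → P2) (ce : ℕ → ℕ × ℕ) (lo n : ℕ) : Bool := fo X fun X => fo (pw4 X 18) fun X' =>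
  (List.range n).all fun j => decide ((ce (lo + j)).1 < 64) && decide ((ce (lo + j)).2 < 64) &&
    eq4 (av4 X X' (tE (lo + j), 0) 18) (a4 (HH h (ce (lo + j)).1) (sm 2 (HH h (ce (lo + j)).2)))

def chkB (h : ℕ → P2) : Bool :=
  (List.range 64).all (fun a => fo (HH h a) fun Z => eq4 (sq4 Z 9) Z) &&
  (List.range 6).all fun k => (List.range 6).all fun l => eq4 (m4 (h k) (h l)) (m4 (h l) (h k))

def chkC (h : ℕ → P2) (f : List ℕ) (J : P2) : Bool :=
  (List.range 64).all fun a => fo (HH h a) fun Z => fo (hn4 Z f) fun W =>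
    eq4 W J || eq4 W (sm 2 J) || eq4 W (sm 3 J) || ne4 (pw4 W 3) (sm 2 I4)

def chkD (X : P2) (h : ℕ → P2) (f : List ℕ) (J G0 G1 : P2) (vA vB : ℕ) : Bool :=
  fo X fun X => fo G0 fun G0 => fo G1 fun G1 => fo (HH h 1) fun Z =>
  eq4 (pw4 X 19) I4 && eq4 Z (comb tE 78 vA, comb tE 78 vB) && eq4 (m4 X Z) (m4 Z X) && eq4 (hn4 Z f) J &&
  eq4 (pw4 J 3) (sm 2 I4) && eq4 (m4 G0 G0) I4 && eq4 (m4 G0 J) (m4 J G0) &&
  (fo (m4 (m4 G0 X) G0) fun Z => ne4 (m4 Z X) (m4 X Z)) &&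
  (List.range 4).all fun t => ne4 (m4 G1 J) (sm t (m4 J G1))

variable {K : Type*} [Field K] [CharP K 2] [Finite K]

theorem d27_comb (f : ℕ → ℕ) (n v : ℕ) :
    d27 K (comb f n v) = ∑ k ∈ Finset.range n, bit K v k • d27 K (f k) := by
  ext i j
  simp only [d27, dec_apply, bit_comb, Matrix.sum_apply, Matrix.smul_apply, smul_eq_mul]

theorem d4_HH (ω : K) (h : ℕ → P2) (a : ℕ) :
    d4 ω (HH h a) = ∑ k ∈ Finset.range 6, bit K a k • d4 ω (h k) := by
  simp only [d4, HH, d27_comb, smul_add, Finset.sum_add_distrib, Finset.smul_sum, smul_comm ω]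

theorem HH_xor (ω : K) (h : ℕ → P2) (a b : ℕ) : d4 ω (HH h (a ^^^ b)) = d4 ω (HH h a) + d4 ω (HH h b) := by
  simp only [d4_HH, bit_xor, add_smul, Finset.sum_add_distrib]

def SS (ω : K) (h : ℕ → P2) (Z : M27 K) : Prop :=
  ∃ a < 64, ∃ b < 64, Z = d4 ω (HH h a) + ω • d4 ω (HH h b)

theorem SS.zero (ω : K) (h : ℕ → P2) : SS ω h 0 := ⟨0, by norm_num, 0, by norm_num, by simp [d4_HH]⟩

theorem SS.add {ω : K} {h : ℕ → P2} {Z Z' : M27 K} (h1 : SS ω h Z) (h2 : SS ω h Z') : SS ω h (Z + Z') := by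
  obtain ⟨a, ha, b, hb, rfl⟩ := h1
  obtain ⟨a', ha', b', hb', rfl⟩ := h2
  exact ⟨a ^^^ a', Nat.xor_lt_two_pow (n := 6) ha ha', b ^^^ b', Nat.xor_lt_two_pow (n := 6) hb hb', by
    rw [HH_xor, HH_xor]; module⟩

theorem SS.w {ω : K} (hω : ω ^ 2 + ω + 1 = 0) {h : ℕ → P2} {Z : M27 K} (h1 : SS ω h Z) : SS ω h (ω • Z) := by
  obtain ⟨a, ha, b, hb, rfl⟩ := h1
  exact ⟨b, hb, a ^^^ b, Nat.xor_lt_two_pow (n := 6) ha hb, by
    rw [HH_xor, smul_add, smul_smul, ww hω]; module⟩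

theorem SS.smul (h3 : ∀ c : K, c ≠ 0 → c ^ 3 = 1) {ω : K} (hω : ω ^ 2 + ω + 1 = 0) {h : ℕ → P2} {Z : M27 K}
    (h1 : SS ω h Z) (c : K) : SS ω h (c • Z) := by
  obtain ⟨t, ht, rfl⟩ := cK_surj h3 hω c
  interval_cases t
  · simpa [cK] using SS.zero ω h
  · simpa [cK] using h1
  · simpa [cK] using h1.w hω
  · simpa [cK, add_smul] using h1.add (h1.w hω)

theorem pow_itw {A B Y : M27 K} (h : A * Y = Y * B) (k : ℕ) : A ^ k * Y = Y * B ^ k := by
  induction k with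
  | zero => simp
  | succ k ih => rw [pow_succ', mul_assoc, ih, ← mul_assoc, h, mul_assoc, ← pow_succ']

theorem crit19 (h3 : ∀ c : K, c ≠ 0 → c ^ 3 = 1) {ω : K} (hω : ω ^ 2 + ω + 1 = 0) {X J G0 G1 : P2}
    {h : ℕ → P2} {ce : ℕ → ℕ × ℕ} {f : List ℕ} {vA vB : ℕ} {x : twistedE6 K 2} (hX : Lf x (d4 ω X))
    (h0 : LL (d4 ω G0)) (h1 : LL (d4 ω G1)) (cA : chkA X h ce 0 39 = true) (cA' : chkA X h ce 39 39 = true)
    (cB : chkB h = true) (cC : chkC h f J = true) (cD : chkD X h f J G0 G1 vA vB = true) :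
    ¬ IsCoatom (Subgroup.normalizer (Subgroup.zpowers x : Set (twistedE6 K 2))) := by
  simp only [chkD, fo_eq, Bool.and_eq_true] at cD
  obtain ⟨⟨⟨⟨⟨⟨⟨⟨a1, a2⟩, a3⟩, a4⟩, a5⟩, a6⟩, a7⟩, a8⟩, a9⟩ := cD
  have b1 := congrArg (d4 ω) (eq4_eq a1)
  have b2 := congrArg (d4 ω) (eq4_eq a2)
  have b3 := congrArg (d4 ω) (eq4_eq a3)
  have b4 := congrArg (d4 ω) (eq4_eq a4)
  have b5 := congrArg (d4 ω) (eq4_eq a5)
  have b6 := congrArg (d4 ω) (eq4_eq a6)
  have b7 := congrArg (d4 ω) (eq4_eq a7)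
  have b8 := d4_ne hω a8
  simp only [d4_m4 hω, d4_pw4 hω, d4_I, d4_hn4 hω, d4_sm hω] at b1 b3 b4 b5 b6 b7 b8
  have c2 : cK ω 2 = ω := by simp [cK]
  have hp : Nat.Coprime 19 3 := by norm_num
  simp only [chkB, fo_eq, Bool.and_eq_true] at cB
  have hsq : ∀ a < 64, d4 ω (HH h a) ^ 2 ^ 9 = d4 ω (HH h a) := fun a ha => by
    rw [← d4_sq4 hω, eq4_eq (all_range cB.1 ha)]
  have hcm : ∀ a b, Commute (d4 ω (HH h a)) (d4 ω (HH h b)) := fun a b => by
    rw [d4_HH, d4_HH]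
    refine Commute.sum_left _ _ _ fun k hk => Commute.sum_right _ _ _ fun l hl => ?_
    have := congrArg (d4 ω) (eq4_eq (all_range (all_range cB.2 (Finset.mem_range.1 hk)) (Finset.mem_range.1 hl)))
    rw [d4_m4 hω, d4_m4 hω] at this
    exact (Commute.smul_left this _).smul_right _
  have hav : ∀ j < 78, SS ω h (∑ i ∈ Finset.range 19, d4 ω X ^ i * d27 K (tE j) * (d4 ω X ^ 18) ^ i) := by
    have key : ∀ lo n, chkA X h ce lo n = true → ∀ j < n,
        SS ω h (∑ i ∈ Finset.range 19, d4 ω X ^ i * d27 K (tE (lo + j)) * (d4 ω X ^ 18) ^ i) := by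
      intro lo n c j hj
      simp only [chkA, fo_eq] at c
      have := all_range c hj
      simp only [Bool.and_eq_true, decide_eq_true_eq] at this
      refine ⟨_, this.1.1, _, this.1.2, ?_⟩
      have e := congrArg (d4 ω) (eq4_eq this.2)
      rwa [d4_av4 hω, d4_a4, d4_sm hω, d4_pw4 hω, d4_real, c2] at e
    intro j hj
    by_cases h39 : j < 39
    · simpa using key 0 39 cA j h39
    · have := key 39 39 cA' (j - 39) (by omega)
      rwa [show 39 + (j - 39) = j by omega] at this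
  have hav' : ∀ y : chevE6.Idx → K,
      SS ω h (∑ i ∈ Finset.range 19, d4 ω X ^ i * Tm tE iE y * (d4 ω X ^ 18) ^ i) := fun y => by
    induction y using Pi.single_induction with
    | zero => simpa [Tm] using SS.zero ω h
    | add y z hy hz => simpa only [Tm_add, mul_add, add_mul, Finset.sum_add_distrib] using hy.add hz
    | single c a =>
      have : (Pi.single c a : chevE6.Idx → K) = a • (Pi.single c 1 : chevE6.Idx → K) := by
        rw [← Pi.single_smul, smul_eq_mul, mul_one]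
      rw [this, Tm_smul, Tm_single]
      simpa only [mul_smul_comm, smul_mul_assoc, Finset.smul_sum] using (hav _ (enE.lt c)).smul h3 hω a
  obtain ⟨y0, hy0⟩ : ∃ y0, d4 ω (HH h 1) = Tm tE iE y0 :=
    ⟨(fun c => bit K vA (iE c)) + ω • fun c => bit K vB (iE c), by
      rw [b2, Tm_add, Tm_smul, Tm_bits, Tm_bits]; rfl⟩
  obtain ⟨g0, h0⟩ := h0
  obtain ⟨g1, h1⟩ := h1
  refine not_coatom_of
    { carrier := {g | ∃ Y, ∃ c : K, Lf g Y ∧ Y * d4 ω J = c • (d4 ω J * Y)}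
      one_mem' := ⟨1, 1, Lf.one, by simp⟩
      mul_mem' := ?_ } (fun n hn => ?_) (g0 := g0) (g1 := g1) ⟨_, 1, h0, by rw [b7, one_smul]⟩
    (not_norm h3 hp (Subgroup.mem_zpowers x) hX b1 (fun g hg => ?_) h0 b6 b8) ?_
  · rintro a b ⟨Y, c, a1, a2⟩ ⟨Z, d, b1, b2⟩
    exact ⟨_, d * c, a1.mul b1, by
      rw [mul_assoc, b2, mul_smul_comm, ← mul_assoc, a2, smul_mul_assoc, smul_smul, mul_assoc]⟩
  · obtain ⟨Y, hY⟩ := Lf.ex n
    obtain ⟨k, c1, c3⟩ := zp_lift hX b1 ((Subgroup.mem_normalizer_iff''.1 hn x).1 (Subgroup.mem_zpowers x))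
    have c4 := conj_lift h3 hp hY hX c1 b1 c3
    obtain ⟨Y', e⟩ := hY.2
    have e' := mul_eq_one_comm.1 e
    have canc : ∀ A B : M27 K, A * Y = B * Y → A = B := fun A B hAB => by
      rw [← mul_one A, ← e', ← mul_assoc, hAB, mul_assoc, e', mul_one]
    have c5 := hY.1 y0
    rw [← hy0] at c5
    have c6 := hav' (((n : GL chevE6.Idx K) : Matrix chevE6.Idx chevE6.Idx K) *ᵥ y0)
    generalize Tm tE iE (((n : GL chevE6.Idx K) : Matrix chevE6.Idx chevE6.Idx K) *ᵥ y0) = Z at c5 c6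
    have c7 : Commute (d4 ω X) Z := canc _ _ (by
      have : Commute (d4 ω X) (d4 ω (HH h 1)) := b3
      rw [mul_assoc, c5, ← mul_assoc, c4, mul_assoc, (this.pow_left k).eq, ← mul_assoc, ← c5, mul_assoc, ← c4,
        mul_assoc])
    have c8 : ∀ i : ℕ, d4 ω X ^ i * Z * (d4 ω X ^ 18) ^ i = Z := fun i => by
      rw [(c7.pow_left i).eq, mul_assoc, ← pow_mul, ← pow_add, show i + 18 * i = 19 * i by ring, pow_mul, b1,
        one_pow, mul_one]
    rw [Finset.sum_congr rfl fun i _ => c8 i, Finset.sum_const, Finset.card_range,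
      show 19 = 9 * 2 + 1 from rfl, add_smul, mul_smul, two_smul, madd_self, smul_zero, zero_add, one_smul] at c6
    obtain ⟨a, ha, b, hb, rfl⟩ := c6
    have c9 := canc _ _ ((pow_itw c5 (2 ^ 9)).trans (by rw [hsq 1 (by norm_num), c5]))
    rw [add_pow_char_pow_of_commute _ _ ((hcm a b).smul_right ω), smul_pow, hsq a ha, hsq b hb,
      add_right_inj] at c9
    have c10 : ω ^ 2 ^ 9 = 1 + ω := by
      have w3 : ω ^ 3 = 1 := by linear_combination (ω - 1) * hω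
      rw [show 2 ^ 9 = 3 * 170 + 2 from rfl, pow_add, pow_mul, w3, one_pow, one_mul, pow_two, ww hω]
    rw [c10, add_smul, one_smul, add_eq_right] at c9
    rw [c9, smul_zero, add_zero] at c5
    have c11 := hn_conj ω c5 f
    rw [b4, ← d4_hn4 hω] at c11
    simp only [chkC, fo_eq] at cC
    have c12 := all_range cC ha
    simp only [Bool.or_eq_true] at c12
    rcases c12 with ((c12 | c12) | c12) | c12
    · exact ⟨Y, 1, hY, by rw [← c11, eq4_eq c12, one_smul]⟩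
    · exact ⟨Y, _, hY, by rw [← c11, eq4_eq c12, d4_sm hω, smul_mul_assoc]⟩
    · exact ⟨Y, _, hY, by rw [← c11, eq4_eq c12, d4_sm hω, smul_mul_assoc]⟩
    · refine absurd (canc _ _ ?_) (d4_ne hω c12)
      rw [d4_pw4 hω, pow_itw c11 3, b5, d4_sm hω, d4_I]; simp
  · obtain ⟨k, c1, c2⟩ := zp_lift hX b1 hg
    exact ⟨_, c1, c2, by rw [← pow_succ, pow_succ']⟩
  · rintro ⟨Y, c, a1, a2⟩
    obtain ⟨d, hd, rfl⟩ := h1.scal a1
    obtain ⟨t, ht, rfl⟩ := cK_surj h3 hω c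
    rw [smul_mul_assoc, mul_smul_comm, smul_comm] at a2
    refine d4_ne hω (all_range a9 ht) ?_
    rw [d4_sm hω, d4_m4 hω, d4_m4 hω]
    exact smul_right_injective _ hd a2

end Cfsg.Agent.H9.E6
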