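import Cfsg.Agent.H9.E6.Mat

/-! Criteria for non-maximality of normalisers in `²E₆(2)`. -/

set_option autoImplicit false
set_option maxRecDepth 100000
set_option linter.unusedSectionVars false

namespace Cfsg.Agent.H9.E6

open Cfsg.Lie Cfsg.Agent.H4 Cfsg.Agent.H4.Bit Cfsg.Agent.H4.E27 Matrix

/-- a submonoid of a finite group -/
def subOf {G : Type*} [Group G] [Finite G] (S : Submonoid G) : Subgroup G :=
  { S with
    inv_mem' := fun {x} hx => by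
      have h1 : x⁻¹ = x ^ (orderOf x - 1) := by
        rw [inv_eq_iff_mul_eq_one, ← pow_succ', Nat.sub_add_cancel (orderOf_pos x), pow_orderOf_eq_one]
      rw [h1]; exact S.pow_mem hx _ }

theorem not_coatom_of {G : Type*} [Group G] [Finite G] {N : Subgroup G} (S : Submonoid G)
    (h1 : ∀ n ∈ N, n ∈ S) {g0 g1 : G} (h2 : g0 ∈ S) (h3 : g0 ∉ N) (h4 : g1 ∉ S) : ¬ IsCoatom N := by
  intro h
  have : subOf S = ⊤ := h.2 _ (lt_of_le_of_ne h1 fun e => h3 (e ▸ h2))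
  exact h4 (show g1 ∈ subOf S from this ▸ Subgroup.mem_top _)

theorem conj_le {G : Type*} [Group G] [Finite G] {p n : ℕ} [Fact p.Prime]
    (hb : ∀ Q : Subgroup G, IsPGroup p Q → Nat.card Q ∣ n) (hn : 0 < n) {Q0 : Subgroup G} (h0 : IsPGroup p Q0)
    (hc : n ≤ Nat.card Q0) {P : Subgroup G} (hP : IsPGroup p P) :
    ∃ g : G, P.map (MulAut.conj g).toMonoidHom ≤ Q0 := by
  obtain ⟨S, hS⟩ := hP.exists_le_sylow
  obtain ⟨S', hS'⟩ := h0.exists_le_sylow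
  obtain ⟨g, hg⟩ := MulAction.exists_smul_eq G S S'
  have e : Q0 = S' := Subgroup.eq_of_le_of_card_ge hS' ((Nat.le_of_dvd hn (hb _ S'.2)).trans hc)
  refine ⟨g, ?_⟩
  rw [e, ← hg]
  exact Subgroup.map_mono hS

theorem coatom_conj {G : Type*} [Group G] (P : Subgroup G) (g : G)
    (h : IsCoatom (Subgroup.normalizer (P : Set G))) :
    IsCoatom (Subgroup.normalizer ((P.map (MulAut.conj g).toMonoidHom : Subgroup G) : Set G)) := by
  rw [← Subgroup.map_equiv_normalizer_eq]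
  exact ((MulAut.conj g).mapSubgroup.isCoatom_iff _).2 h

variable {K : Type*} [Field K] [CharP K 2] [Finite K]

theorem conj_lift (h3 : ∀ c : K, c ≠ 0 → c ^ 3 = 1) {p : ℕ} (hp : Nat.Coprime p 3) {n g : twistedE6 K 2}
    {Y X W : M27 K} (hY : Lf n Y) (hX : Lf g X) (hW : Lf (n⁻¹ * g * n) W) (e : X ^ p = 1) (e' : W ^ p = 1) :
    X * Y = Y * W := by
  obtain ⟨Y', h⟩ := hY.2
  have h' := mul_eq_one_comm.1 h
  have h1 : ∀ k : ℕ, (Y' * X * Y) ^ k = Y' * X ^ k * Y := fun k => by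
    induction k with
    | zero => simp [h]
    | succ k ih =>
      rw [pow_succ, ih, pow_succ, show Y' * X ^ k * Y * (Y' * X * Y) = Y' * X ^ k * (Y * Y') * X * Y by
        simp only [mul_assoc], h']; simp only [mul_assoc, one_mul]
  rw [(((hY.inv h).mul hX).mul hY).uniq h3 hp hW (by rw [h1, e, mul_one, h]) e', ← mul_assoc, ← mul_assoc, h',
    one_mul]

theorem not_norm (h3 : ∀ c : K, c ≠ 0 → c ^ 3 = 1) {p : ℕ} (hp : Nat.Coprime p 3) {P : Subgroup (twistedE6 K 2)}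
    {x g0 : twistedE6 K 2} {X G0 : M27 K} (hx : x ∈ P) (hX : Lf x X) (e : X ^ p = 1)
    (hA : ∀ g ∈ P, ∃ W, Lf g W ∧ W ^ p = 1 ∧ W * X = X * W) (h0 : Lf g0 G0) (hG : G0 * G0 = 1)
    (hn : G0 * X * G0 * X ≠ X * (G0 * X * G0)) : g0 ∉ Subgroup.normalizer (P : Set (twistedE6 K 2)) := by
  intro h
  obtain ⟨W, h1, h2, h4⟩ := hA _ ((Subgroup.mem_normalizer_iff''.1 h x).1 hx)
  have h5 := conj_lift h3 hp h0 hX h1 e h2
  have h6 : G0 * X * G0 = W := by rw [mul_assoc, h5, ← mul_assoc, hG, one_mul]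
  exact hn (by rw [h6, h4])

theorem fix_crit (h3 : ∀ c : K, c ≠ 0 → c ^ 3 = 1) {p : ℕ} (hp : Nat.Coprime p 3) {P : Subgroup (twistedE6 K 2)}
    {D : M27 K} (hA : ∀ g ∈ P, ∃ W, Lf g W ∧ W ^ p = 1 ∧ W * D = D)
    (hB : ∀ Z : M27 K, (∀ g ∈ P, ∀ W, Lf g W → W ^ p = 1 → W * Z = Z) → D * Z = Z)
    {g0 : twistedE6 K 2} {G0 G1 : M27 K} (h0 : Lf g0 G0) (h1 : LL G1) (e0 : D * (G0 * D) = G0 * D)
    (e1 : D * (G1 * D) ≠ G1 * D) (hn : g0 ∉ Subgroup.normalizer (P : Set (twistedE6 K 2))) :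
    ¬ IsCoatom (Subgroup.normalizer (P : Set (twistedE6 K 2))) := by
  have key : ∀ n ∈ Subgroup.normalizer (P : Set (twistedE6 K 2)), ∃ Y, Lf n Y ∧ D * (Y * D) = Y * D := by
    intro n hn
    obtain ⟨Y, hY⟩ := Lf.ex n
    refine ⟨Y, hY, hB _ fun g hg X hX e => ?_⟩
    obtain ⟨W, a1, a2, a3⟩ := hA _ ((Subgroup.mem_normalizer_iff''.1 hn g).1 hg)
    rw [← mul_assoc, conj_lift h3 hp hY hX a1 e a2, mul_assoc, a3]
  obtain ⟨g1, h1⟩ := h1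
  refine not_coatom_of
    { carrier := {g | ∃ Y, Lf g Y ∧ D * (Y * D) = Y * D}
      one_mem' := key 1 (one_mem _)
      mul_mem' := ?_ } key (g1 := g1) ⟨G0, h0, e0⟩ hn ?_
  · rintro a b ⟨Y, a1, a2⟩ ⟨Z, b1, b2⟩
    refine ⟨_, a1.mul b1, ?_⟩
    calc D * (Y * Z * D) = D * (Y * D) * (Z * D) := by rw [mul_assoc Y, ← b2]; simp only [mul_assoc, b2]
      _ = Y * (D * (Z * D)) := by rw [a2, mul_assoc]
      _ = _ := by rw [b2, mul_assoc]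
  · rintro ⟨Y, a1, a2⟩
    obtain ⟨c, hc, rfl⟩ := h1.scal a1
    rw [smul_mul_assoc, mul_smul_comm] at a2
    exact e1 (smul_right_injective _ hc a2)

theorem gs_mul {X : M27 K} {p : ℕ} (e : X ^ p = 1) :
    X * ∑ i ∈ Finset.range p, X ^ i = ∑ i ∈ Finset.range p, X ^ i := by
  have := mul_geom_sum X p
  rw [e, sub_self, sub_mul, one_mul, sub_eq_zero] at this
  exact this

theorem gs_fix {X Z : M27 K} {p : ℕ} (hp : Odd p) (e : X * Z = Z) : (∑ i ∈ Finset.range p, X ^ i) * Z = Z := by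
  have : ∀ i : ℕ, X ^ i * Z = Z := fun i => by
    induction i with
    | zero => simp
    | succ i ih => rw [pow_succ, mul_assoc, e, ih]
  rw [Finset.sum_mul, Finset.sum_congr rfl fun i _ => this i, Finset.sum_const, Finset.card_range]
  obtain ⟨k, rfl⟩ := hp
  rw [add_smul, mul_comm, mul_smul, two_smul, madd_self, smul_zero, zero_add, one_smul]

theorem pw_fix {X D : M27 K} (e : X * D = D) (i : ℕ) : X ^ i * D = D := by
  induction i with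
  | zero => simp
  | succ i ih => rw [pow_succ, mul_assoc, e, ih]

/-- the check for a cyclic group -/
def chkCyc (p : ℕ) (X G0 G1 : P2) : Bool := fo X fun X => fo G0 fun G0 => fo (ps4 X (p - 1)) fun D =>
  eq4 (pw4 X p) I4 && eq4 (m4 G0 G0) I4 && (fo (m4 G0 D) fun Z => eq4 (m4 D Z) Z) &&
    (fo (m4 G1 D) fun Z => ne4 (m4 D Z) Z) && fo (m4 (m4 G0 X) G0) fun Z => ne4 (m4 Z X) (m4 X Z)

theorem zp_lift {x : twistedE6 K 2} {X : M27 K} (hX : Lf x X) {p : ℕ} (e : X ^ p = 1) {g : twistedE6 K 2}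
    (hg : g ∈ Subgroup.zpowers x) : ∃ k : ℕ, Lf g (X ^ k) ∧ (X ^ k) ^ p = 1 := by
  obtain ⟨k, rfl⟩ := mem_powers_iff_mem_zpowers.2 hg
  exact ⟨k, hX.pow k, by rw [← pow_mul, mul_comm, pow_mul, e, one_pow]⟩

theorem cyc_crit (h3 : ∀ c : K, c ≠ 0 → c ^ 3 = 1) {ω : K} (hω : ω ^ 2 + ω + 1 = 0) {p : ℕ}
    (hp : Nat.Coprime p 3) (ho : Odd p) {X G0 G1 : P2} {x : twistedE6 K 2} (hX : Lf x (d4 ω X))
    (h0 : LL (d4 ω G0)) (h1 : LL (d4 ω G1)) (h : chkCyc p X G0 G1 = true) :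
    ¬ IsCoatom (Subgroup.normalizer (Subgroup.zpowers x : Set (twistedE6 K 2))) := by
  simp only [chkCyc, fo_eq, Bool.and_eq_true] at h
  obtain ⟨⟨⟨⟨a1, a2⟩, a3⟩, a4⟩, a5⟩ := h
  have b1 := congrArg (d4 ω) (eq4_eq a1)
  have b2 := congrArg (d4 ω) (eq4_eq a2)
  have b3 := congrArg (d4 ω) (eq4_eq a3)
  have b4 := d4_ne hω a4
  have b5 := d4_ne hω a5
  simp only [d4_m4 hω, d4_pw4 hω, d4_I, d4_ps4 hω, Nat.sub_add_cancel ho.pos] at b1 b2 b3 b4 b5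
  obtain ⟨g0, h0⟩ := h0
  refine fix_crit h3 hp (fun g hg => ?_) (fun Z hZ => gs_fix ho (hZ x (Subgroup.mem_zpowers x) _ hX b1))
    h0 h1 b3 b4 (not_norm h3 hp (Subgroup.mem_zpowers x) hX b1 (fun g hg => ?_) h0 b2 b5)
  · obtain ⟨k, c1, c2⟩ := zp_lift hX b1 hg
    exact ⟨_, c1, c2, pw_fix (gs_mul b1) k⟩
  · obtain ⟨k, c1, c2⟩ := zp_lift hX b1 hg
    exact ⟨_, c1, c2, by rw [← pow_succ, pow_succ']⟩

theorem ord_of_chk {ω : K} (hω : ω ^ 2 + ω + 1 = 0) {p : ℕ} [Fact p.Prime] (h3 : ∀ c : K, c ≠ 0 → c ^ 3 = 1)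
    (hp : Nat.Coprime p 3) {X : P2} {x : twistedE6 K 2} (hX : Lf x (d4 ω X)) (e : eq4 (pw4 X p) I4 = true)
    (e' : ne4 X I4 = true) : orderOf x = p := by
  have b1 := congrArg (d4 ω) (eq4_eq e)
  rw [d4_pw4 hω, d4_I] at b1
  refine orderOf_eq_prime ((hX.pow p).inj (b1 ▸ Lf.one)) fun h => d4_ne hω e' ?_
  rw [d4_I]
  exact Lf.one.uniq h3 hp (h ▸ hX) (one_pow p) b1

/-- the group generated by two commuting elements -/
def Q2 {G : Type*} [Group G] [Finite G] {a b : G} (h : Commute a b) : Subgroup G := subOf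
  { carrier := {g | ∃ i j : ℕ, g = a ^ i * b ^ j}
    one_mem' := ⟨0, 0, by simp⟩
    mul_mem' := by
      rintro _ _ ⟨i, j, rfl⟩ ⟨k, l, rfl⟩
      exact ⟨i + k, j + l, by
        rw [pow_add, pow_add, mul_assoc, mul_assoc, ← mul_assoc (b ^ j), ← (h.pow_pow k j).eq, mul_assoc]⟩ }

theorem mem_Q2 {G : Type*} [Group G] [Finite G] {a b : G} (h : Commute a b) {g : G} :
    g ∈ Q2 h ↔ ∃ i j : ℕ, g = a ^ i * b ^ j := Iff.rfl

def chkQ (A B G0 G1 : P2) : Bool := fo A fun A => fo B fun B => fo G0 fun G0 =>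
  fo (m4 (ps4 A 6) (ps4 B 6)) fun D =>
  eq4 (pw4 A 7) I4 && eq4 (pw4 B 7) I4 && eq4 (m4 A B) (m4 B A) && eq4 (m4 G0 G0) I4 &&
    (fo (m4 G0 D) fun Z => eq4 (m4 D Z) Z) &&
    (fo (m4 G1 D) fun Z => ne4 (m4 D Z) Z) && fo (m4 (m4 G0 A) G0) fun Z => ne4 (m4 Z A) (m4 A Z)

theorem Q_crit (h3 : ∀ c : K, c ≠ 0 → c ^ 3 = 1) {ω : K} (hω : ω ^ 2 + ω + 1 = 0)
    {A B G0 G1 : P2} {a b : twistedE6 K 2} (hA : Lf a (d4 ω A)) (hB : Lf b (d4 ω B)) (hc : Commute a b)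
    (h0 : LL (d4 ω G0)) (h1 : LL (d4 ω G1)) (h : chkQ A B G0 G1 = true) :
    ¬ IsCoatom (Subgroup.normalizer (Q2 hc : Set (twistedE6 K 2))) := by
  simp only [chkQ, fo_eq, Bool.and_eq_true] at h
  obtain ⟨⟨⟨⟨⟨⟨a1, a1'⟩, a0⟩, a2⟩, a3⟩, a4⟩, a5⟩ := h
  have b0 := congrArg (d4 ω) (eq4_eq a0)
  have b1 := congrArg (d4 ω) (eq4_eq a1)
  have b1' := congrArg (d4 ω) (eq4_eq a1')
  have b2 := congrArg (d4 ω) (eq4_eq a2)
  have b3 := congrArg (d4 ω) (eq4_eq a3)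
  have b4 := d4_ne hω a4
  have b5 := d4_ne hω a5
  simp only [d4_m4 hω, d4_pw4 hω, d4_I, d4_ps4 hω] at b0 b1 b1' b2 b3 b4 b5
  obtain ⟨g0, h0⟩ := h0
  have hp : Nat.Coprime 7 3 := by norm_num
  have hc' : Commute (d4 ω A) (d4 ω B) := b0
  have ha : a ∈ Q2 hc := ⟨1, 0, by simp⟩
  have hb : b ∈ Q2 hc := ⟨0, 1, by simp⟩
  have hl : ∀ i j : ℕ, (d4 ω A ^ i * d4 ω B ^ j) ^ 7 = 1 := fun i j => by
    rw [(hc'.pow_pow i j).mul_pow, ← pow_mul, ← pow_mul, mul_comm i, mul_comm j, pow_mul, pow_mul, b1, b1']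
    simp
  refine fix_crit h3 hp ?_ (fun Z hZ => ?_) h0 h1 b3 b4 (not_norm h3 hp ha hA b1 ?_ h0 b2 b5)
  · rintro _ ⟨i, j, rfl⟩
    refine ⟨_, (hA.pow i).mul (hB.pow j), hl i j, ?_⟩
    have : Commute (d4 ω B ^ j) (∑ i ∈ Finset.range (6 + 1), d4 ω A ^ i) :=
      Commute.sum_right _ _ _ fun i _ => (hc'.pow_pow i j).symm
    rw [mul_assoc, ← mul_assoc (d4 ω B ^ j), this.eq, mul_assoc, pw_fix (gs_mul b1'), ← mul_assoc,
      pw_fix (gs_mul b1)]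
  · rw [mul_assoc, gs_fix (by decide) (hZ b hb _ hB b1'), gs_fix (by decide) (hZ a ha _ hA b1)]
  · rintro _ ⟨i, j, rfl⟩
    exact ⟨_, (hA.pow i).mul (hB.pow j), hl i j,
      (((Commute.refl _).pow_left i).mul_left (hc'.symm.pow_left j)).eq⟩

end Cfsg.Agent.H9.E6
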