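import Cfsg.Agent.H9.E6.Dat

/-! Kernel checks for the prime 19. -/

set_option autoImplicit false
set_option maxRecDepth 100000

namespace Cfsg.Agent.H9.E6

open Cfsg.Agent.H4 Cfsg.Agent.H4.Bit Cfsg.Agent.H4.E27

theorem c19A' : chkA x19 hh ce 39 39 = true := by decide +kernel

end Cfsg.Agent.H9.E6
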