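import Cfsg.Agent.H9.E6.Enum

/-! Enumeration of the isometries of the root system of type E6: one quarter. -/

namespace Cfsg.Agent.H9.E6

theorem top1 : top 18 18 = true := by decide +kernel

end Cfsg.Agent.H9.E6
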