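import Cfsg.Agent.H9.E6.En0
import Cfsg.Agent.H9.E6.En1
import Cfsg.Agent.H9.E6.En2
import Cfsg.Agent.H9.E6.En3

/-! Determinants `det (2 w - 1)` for the isometries of the root system of type E6 outside the Weyl group. -/

set_option autoImplicit false
set_option maxRecDepth 100000

namespace Cfsg.Agent.H9.E6

open Cfsg.Agent.H4.TC Cfsg.Agent.H4.Sl

theorem allB_ok {f : ℕ → Bool} {n m : ℕ} (h : allB f n m = true) {k : ℕ} (hk : m.testBit k = true) :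
    f k = true := by
  induction n generalizing m with
  | zero =>
    have : m = 0 := Nat.eq_of_beq_eq_true h
    simp [this] at hk
  | succ n ih =>
    have h' : (bif Nat.beq m 0 then true else
      force (Nat.log2 m) fun k => f k && force (Nat.xor m (Nat.pow 2 k)) (allB f n)) = true := h
    have h0 : Nat.beq m 0 = false := by
      cases e : Nat.beq m 0
      · rfl
      · simp [Nat.eq_of_beq_eq_true e] at hk
    simp only [h0, cond_false, force_eq, Bool.and_eq_true] at h'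
    by_cases e : k = m.log2
    · rw [e]; exact h'.1
    · refine ih h'.2 ?_
      show (m ^^^ 2 ^ m.log2).testBit k = true
      rw [Nat.testBit_xor, hk, Nat.testBit_two_pow_of_ne (Ne.symm e)]; rfl

def N2 (y x : ℕ → ℕ) (i j : ℕ) : ℕ :=
  F2 (y i) (y j) (x j) (x i)
def N3 (z y x : ℕ → ℕ) (i j k : ℕ) : ℕ :=
  F3 (z i) (z j) (z k) (N2 y x j k) (N2 y x i k) (N2 y x i j)
def N4 (u z y x : ℕ → ℕ) (i j k l : ℕ) : ℕ :=
  F4 (u i) (u j) (u k) (u l) (N3 z y x j k l) (N3 z y x i k l) (N3 z y x i j l) (N3 z y x i j k)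
def N5 (v u z y x : ℕ → ℕ) (i j k l m : ℕ) : ℕ :=
  F5 (v i) (v j) (v k) (v l) (v m) (N4 u z y x j k l m) (N4 u z y x i k l m) (N4 u z y x i j l m) (N4 u z y x i j k m) (N4 u z y x i j k l)
def N6 (w v u z y x : ℕ → ℕ) (i j k l m n : ℕ) : ℕ :=
  F6 (w i) (w j) (w k) (w l) (w m) (w n) (N5 v u z y x j k l m n) (N5 v u z y x i k l m n) (N5 v u z y x i j l m n) (N5 v u z y x i j k m n) (N5 v u z y x i j k l n) (N5 v u z y x i j k l m)

abbrev ZZ := ZMod 4294967296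

theorem nmZ : (4294967295 : ZZ) = -1 := by decide +kernel

theorem det2 (c : Fin 2 → ℕ → ℕ) (r : Fin 2 → ℕ) :
    Matrix.det (Matrix.of fun i j => ((c j (r i) : ℕ) : ZZ)) = (N2 (c 0) (c 1) (r 0) (r 1) : ℕ) := by
  rw [Matrix.det_fin_two, N2, F2]
  simp only [Nat.add_eq, Nat.mul_eq, Matrix.of_apply]; push_cast; rw [nmZ]; ring

theorem det3 (c : Fin 3 → ℕ → ℕ) (r : Fin 3 → ℕ) :
    Matrix.det (Matrix.of fun i j => ((c j (r i) : ℕ) : ZZ)) = (N3 (c 0) (c 1) (c 2) (r 0) (r 1) (r 2) : ℕ) := by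
  rw [Matrix.det_succ_column_zero, N3, F3]
  have h : ∀ t : Fin 3, ((Matrix.of fun i j => ((c j (r i) : ℕ) : ZZ)).submatrix t.succAbove Fin.succ).det = _ :=
    fun t => det2 (fun j => c j.succ) (fun i => r (t.succAbove i))
  simp only [h, Fin.sum_univ_succ, Fin.sum_univ_zero, Nat.add_eq, Nat.mul_eq, Matrix.of_apply]
  push_cast; rw [nmZ]
  show ((-1) ^ 0 * (c 0 (r 0) : ZZ) * (N2 (c 1) (c 2) (r 1) (r 2) : ℕ) + ((-1) ^ 1 * (c 0 (r 1) : ZZ) * (N2 (c 1) (c 2) (r 0) (r 2) : ℕ) + ((-1) ^ 2 * (c 0 (r 2) : ZZ) * (N2 (c 1) (c 2) (r 0) (r 1) : ℕ) + 0))) = _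
  ring

theorem det4 (c : Fin 4 → ℕ → ℕ) (r : Fin 4 → ℕ) :
    Matrix.det (Matrix.of fun i j => ((c j (r i) : ℕ) : ZZ)) = (N4 (c 0) (c 1) (c 2) (c 3) (r 0) (r 1) (r 2) (r 3) : ℕ) := by
  rw [Matrix.det_succ_column_zero, N4, F4]
  have h : ∀ t : Fin 4, ((Matrix.of fun i j => ((c j (r i) : ℕ) : ZZ)).submatrix t.succAbove Fin.succ).det = _ :=
    fun t => det3 (fun j => c j.succ) (fun i => r (t.succAbove i))
  simp only [h, Fin.sum_univ_succ, Fin.sum_univ_zero, Nat.add_eq, Nat.mul_eq, Matrix.of_apply]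
  push_cast; rw [nmZ]
  show ((-1) ^ 0 * (c 0 (r 0) : ZZ) * (N3 (c 1) (c 2) (c 3) (r 1) (r 2) (r 3) : ℕ) + ((-1) ^ 1 * (c 0 (r 1) : ZZ) * (N3 (c 1) (c 2) (c 3) (r 0) (r 2) (r 3) : ℕ) + ((-1) ^ 2 * (c 0 (r 2) : ZZ) * (N3 (c 1) (c 2) (c 3) (r 0) (r 1) (r 3) : ℕ) + ((-1) ^ 3 * (c 0 (r 3) : ZZ) * (N3 (c 1) (c 2) (c 3) (r 0) (r 1) (r 2) : ℕ) + 0)))) = _
  ring

theorem det5 (c : Fin 5 → ℕ → ℕ) (r : Fin 5 → ℕ) :
    Matrix.det (Matrix.of fun i j => ((c j (r i) : ℕ) : ZZ)) = (N5 (c 0) (c 1) (c 2) (c 3) (c 4) (r 0) (r 1) (r 2) (r 3) (r 4) : ℕ) := by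
  rw [Matrix.det_succ_column_zero, N5, F5]
  have h : ∀ t : Fin 5, ((Matrix.of fun i j => ((c j (r i) : ℕ) : ZZ)).submatrix t.succAbove Fin.succ).det = _ :=
    fun t => det4 (fun j => c j.succ) (fun i => r (t.succAbove i))
  simp only [h, Fin.sum_univ_succ, Fin.sum_univ_zero, Nat.add_eq, Nat.mul_eq, Matrix.of_apply]
  push_cast; rw [nmZ]
  show ((-1) ^ 0 * (c 0 (r 0) : ZZ) * (N4 (c 1) (c 2) (c 3) (c 4) (r 1) (r 2) (r 3) (r 4) : ℕ) + ((-1) ^ 1 * (c 0 (r 1) : ZZ) * (N4 (c 1) (c 2) (c 3) (c 4) (r 0) (r 2) (r 3) (r 4) : ℕ) + ((-1) ^ 2 * (c 0 (r 2) : ZZ) * (N4 (c 1) (c 2) (c 3) (c 4) (r 0) (r 1) (r 3) (r 4) : ℕ) + ((-1) ^ 3 * (c 0 (r 3) : ZZ) * (N4 (c 1) (c 2) (c 3) (c 4) (r 0) (r 1) (r 2) (r 4) : ℕ) + ((-1) ^ 4 * (c 0 (r 4) : ZZ) * (N4 (c 1) (c 2) (c 3) (c 4) (r 0) (r 1) (r 2) (r 3) : ℕ) + 0))))) = _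
  ring

theorem det6 (c : Fin 6 → ℕ → ℕ) (r : Fin 6 → ℕ) :
    Matrix.det (Matrix.of fun i j => ((c j (r i) : ℕ) : ZZ)) = (N6 (c 0) (c 1) (c 2) (c 3) (c 4) (c 5) (r 0) (r 1) (r 2) (r 3) (r 4) (r 5) : ℕ) := by
  rw [Matrix.det_succ_column_zero, N6, F6]
  have h : ∀ t : Fin 6, ((Matrix.of fun i j => ((c j (r i) : ℕ) : ZZ)).submatrix t.succAbove Fin.succ).det = _ :=
    fun t => det5 (fun j => c j.succ) (fun i => r (t.succAbove i))
  simp only [h, Fin.sum_univ_succ, Fin.sum_univ_zero, Nat.add_eq, Nat.mul_eq, Matrix.of_apply]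
  push_cast; rw [nmZ]
  show ((-1) ^ 0 * (c 0 (r 0) : ZZ) * (N5 (c 1) (c 2) (c 3) (c 4) (c 5) (r 1) (r 2) (r 3) (r 4) (r 5) : ℕ) + ((-1) ^ 1 * (c 0 (r 1) : ZZ) * (N5 (c 1) (c 2) (c 3) (c 4) (c 5) (r 0) (r 2) (r 3) (r 4) (r 5) : ℕ) + ((-1) ^ 2 * (c 0 (r 2) : ZZ) * (N5 (c 1) (c 2) (c 3) (c 4) (c 5) (r 0) (r 1) (r 3) (r 4) (r 5) : ℕ) + ((-1) ^ 3 * (c 0 (r 3) : ZZ) * (N5 (c 1) (c 2) (c 3) (c 4) (c 5) (r 0) (r 1) (r 2) (r 4) (r 5) : ℕ) + ((-1) ^ 4 * (c 0 (r 4) : ZZ) * (N5 (c 1) (c 2) (c 3) (c 4) (c 5) (r 0) (r 1) (r 2) (r 3) (r 5) : ℕ) + ((-1) ^ 5 * (c 0 (r 5) : ZZ) * (N5 (c 1) (c 2) (c 3) (c 4) (c 5) (r 0) (r 1) (r 2) (r 3) (r 4) : ℕ) + 0)))))) = _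
  ring

def cN (r j : ℕ) : ℕ → ℕ := cE (row r) j

theorem enum_ok {b0 b1 b2 b3 b4 b5 : ℕ} (h0 : b0 < 72) (h02 : (mm b0).testBit b2 = true)
    (h23 : (mm b2).testBit b3 = true) (h34 : (mm b3).testBit b4 = true) (h45 : (mm b4).testBit b5 = true)
    (h31 : (mm b3).testBit b1 = true) (h03 : (mz b0).testBit b3 = true) (h04 : (mz b0).testBit b4 = true)
    (h05 : (mz b0).testBit b5 = true) (h01 : (mz b0).testBit b1 = true) (h24 : (mz b2).testBit b4 = true)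
    (h25 : (mz b2).testBit b5 = true) (h21 : (mz b2).testBit b1 = true) (h35 : (mz b3).testBit b5 = true)
    (h41 : (mz b4).testBit b1 = true) (h51 : (mz b5).testBit b1 = true)
    (hs : (sg b0 + 2 * sg b2 + sg b4 + 2 * sg b5) % 3 = 2) :
    leaf (N6 (cN b1 1) (cN b5 5) (cN b4 4) (cN b3 3) (cN b2 2) (cN b0 0) 0 1 2 3 4 5) = true := by
  have a1 : lv1 b0 = true := by
    have key : ∀ lo, top lo 18 = true → lo ≤ b0 → b0 < lo + 18 → lv1 b0 = true := fun lo h h1 h2 => by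
      have := all_range h (r := b0 - lo) (by omega)
      rwa [show lo + (b0 - lo) = b0 by omega] at this
    by_cases c1 : b0 < 18
    · exact key 0 top0 (by omega) (by omega)
    by_cases c2 : b0 < 36
    · exact key 18 top1 (by omega) (by omega)
    by_cases c3 : b0 < 54
    · exact key 36 top2 (by omega) (by omega)
    · exact key 54 top3 (by omega) (by omega)
  simp only [lv1, force_eq] at a1
  have a2 := allB_ok a1 h02
  simp only [lv3, force_eq] at a2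
  have a3 := allB_ok a2 (k := b3) (by simp [*])
  simp only [lv45, force_eq] at a3
  have a4 := allB_ok (allB_ok a3 (k := b4) (by simp [*])) (k := b5) (by simp [*])
  have a5 : Nat.beq (Nat.mod (Nat.add (Nat.add (Nat.add (sg b0) (Nat.mul 2 (sg b2))) (sg b4))
      (Nat.mul 2 (sg b5))) 3) 2 = true := by rw [Nat.beq_eq]; exact hs
  simp only [a5, cond_true, lv6, force_eq] at a4
  exact allB_ok a4 (k := b1) (by simp [*])

theorem tb_ok : ∀ r : Fin 72, ∀ i : Fin 6, ((en (row r) i : ℕ) : ZZ) = ((2 * crP PE6 r i : ℤ) : ZZ) ∧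
    |crP PE6 r i| ≤ 3 := by decide +kernel

theorem mask_ok : ∀ r s : Fin 72, (ipIs PE6 QE6 513 r s = true → (mm r).testBit s = true) ∧
    (ipIs PE6 QE6 512 r s = true → (mz r).testBit s = true) := by decide +kernel

theorem cN_cast (r : Fin 72) (j i : Fin 6) :
    ((cN r j i : ℕ) : ZZ) = ((2 * S6.ρ r i - (if i = j then 1 else 0) : ℤ) : ZZ) := by
  rw [S6_ρ, Int.cast_sub, ← (tb_ok r i).1, cN, cE]
  by_cases h : i = j
  · subst h
    simp only [Nat.beq_refl, cond_true, Nat.add_eq, if_true]; push_cast; rw [nmZ]; ring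
  · have : Nat.beq i j = false := by
      cases e : Nat.beq i j
      · rfl
      · exact absurd (Fin.ext (Nat.eq_of_beq_eq_true e)) h
    simp [this, h]

theorem leaf_dvd {d : ℕ} (h : leaf d = true) {z : ℤ} (e : (z : ZZ) = d) (hz : |z| ≤ 84707280) :
    z.natAbs ∣ 41247931725 := by
  simp only [leaf, force_eq, Nat.beq_eq] at h
  have h1 : z ≡ d [ZMOD (4294967296 : ℕ)] := (ZMod.intCast_eq_intCast_iff _ _ _).1 (by rw [e]; simp)
  have h2 : (bif Nat.ble (Nat.mod d 4294967296) 2147483648 then Nat.mod d 4294967296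
      else Nat.sub 4294967296 (Nat.mod d 4294967296)) = z.natAbs := by
    rw [abs_le] at hz
    show (bif Nat.ble (d % 4294967296) 2147483648 then d % 4294967296 else 4294967296 - d % 4294967296) = _
    simp only [Int.ModEq, Bool.cond_eq_ite, Nat.ble_eq] at h1 ⊢
    split_ifs <;> omega
  rw [h2] at h
  exact Nat.dvd_of_mod_eq_zero h

/-- the determinant bound -/
theorem det_dvd (m : (Fin 6 → ℤ) →ₗ[ℤ] (Fin 6 → ℤ)) (iso : ∀ v v', S6.b (m v) (m v') = S6.b v v')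
    (root : ∀ v, S6.R v → S6.R (m v)) (hs : (m ![1, 0, -1, 0, 1, -1]) 0 % 3 = 2) :
    (LinearMap.det ((2 : ℤ) • m - LinearMap.id)).natAbs ∣ 41247931725 := by
  choose β hβ using fun j => root _ (hb6 j)
  have hip : ∀ i j, S6.b (S6.ρ (β i)) (S6.ρ (β j)) = S6.b (Pi.single i 1) (Pi.single j 1) := fun i j => by
    rw [hβ, hβ, iso]
  have h1 : ∀ i j, S6.b (Pi.single i 1) (Pi.single j 1) = -1 → (mm (β i)).testBit (β j) = true := fun i j h =>
    (mask_ok _ _).1 ((S6_ip _ _ _).2 (by rw [hip, h]; norm_num))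
  have h2 : ∀ i j, S6.b (Pi.single i 1) (Pi.single j 1) = 0 → (mz (β i)).testBit (β j) = true := fun i j h =>
    (mask_ok _ _).2 ((S6_ip _ _ _).2 (by rw [hip, h]; norm_num))
  have h3 := enum_ok (b0 := β 0) (b1 := β 1) (b2 := β 2) (b3 := β 3) (b4 := β 4) (b5 := β 5) (β 0).2
    (h1 _ _ (by simp [S6_b, b6_apply])) (h1 _ _ (by simp [S6_b, b6_apply])) (h1 _ _ (by simp [S6_b, b6_apply]))
    (h1 _ _ (by simp [S6_b, b6_apply])) (h1 _ _ (by simp [S6_b, b6_apply])) (h2 _ _ (by simp [S6_b, b6_apply]))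
    (h2 _ _ (by simp [S6_b, b6_apply])) (h2 _ _ (by simp [S6_b, b6_apply])) (h2 _ _ (by simp [S6_b, b6_apply]))
    (h2 _ _ (by simp [S6_b, b6_apply])) (h2 _ _ (by simp [S6_b, b6_apply])) (h2 _ _ (by simp [S6_b, b6_apply]))
    (h2 _ _ (by simp [S6_b, b6_apply])) (h2 _ _ (by simp [S6_b, b6_apply])) (h2 _ _ (by simp [S6_b, b6_apply]))
    (by
      have e : (![1, 0, -1, 0, 1, -1] : Fin 6 → ℤ) =
          Pi.single 0 1 - Pi.single 2 1 + Pi.single 4 1 - Pi.single 5 1 := by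
        funext i; fin_cases i <;> simp
      rw [e, map_sub, map_add, map_sub, ← hβ, ← hβ, ← hβ, ← hβ] at hs
      simp only [Pi.sub_apply, Pi.add_apply, S6_ρ, crP, Fin.val_zero, mul_zero] at hs
      simp only [sg]; omega)
  let σ : Equiv.Perm (Fin 6) := ⟨![1, 5, 4, 3, 2, 0], ![5, 0, 4, 3, 2, 1], by decide, by decide⟩
  set A := LinearMap.toMatrix' ((2 : ℤ) • m - LinearMap.id) with hA
  have hAe : ∀ i j, A i j = 2 * S6.ρ (β j) i - (if i = j then 1 else 0) := fun i j => by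
    rw [hA, LinearMap.toMatrix'_apply, hβ]
    simp [Pi.single_apply]
  rw [← LinearMap.det_toMatrix', ← hA]
  have h4 : (A.submatrix id σ).det.natAbs = A.det.natAbs := by
    rw [Matrix.det_permute', Int.natAbs_mul]; simp
  rw [← h4]
  refine leaf_dvd h3 ?_ ?_
  · have := det6 (fun j => cN (β (σ j)) (σ j)) Fin.val
    refine Eq.trans ?_ this
    rw [Int.cast_det]
    refine congrArg Matrix.det (Matrix.ext fun i j => ?_)
    rw [Matrix.map_apply, Matrix.submatrix_apply, hAe, Matrix.of_apply, cN_cast, id]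
  · have := Matrix.det_le (A := A.submatrix id σ) (abv := AbsoluteValue.abs) (x := 7) fun i j => by
      have := (tb_ok (β (σ j)) i).2
      rw [Matrix.submatrix_apply, hAe, S6_ρ, AbsoluteValue.abs_apply, id]
      rw [abs_le] at this ⊢
      split_ifs <;> omega
    simpa [Nat.factorial] using this

end Cfsg.Agent.H9.E6
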