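import Cfsg.Agent.H9.E6.Tab
import Cfsg.Agent.H4.TC

/-! Enumeration of the isometries of the root system of type E6. -/

set_option autoImplicit false
set_option maxRecDepth 100000

namespace Cfsg.Agent.H9.E6

open Cfsg.Agent.H4.TC Cfsg.Agent.H4.Sl

noncomputable def allB (f : ℕ → Bool) (n : ℕ) : ℕ → Bool :=
  Nat.rec (fun m => Nat.beq m 0) (fun _ ih m => bif Nat.beq m 0 then true else
    force (Nat.log2 m) fun k => f k && force (Nat.xor m (Nat.pow 2 k)) ih) n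

def row (r : ℕ) : ℕ := Nat.shiftRight TB (Nat.mul 256 r)
def en (x i : ℕ) : ℕ := Nat.land (Nat.shiftRight x (Nat.mul 32 i)) 4294967295
def cE (x j i : ℕ) : ℕ := bif Nat.beq i j then Nat.add (en x i) 4294967295 else en x i
def mm (r : ℕ) : ℕ := Nat.land (Nat.shiftRight MM (Nat.mul 128 r)) 0xffffffffffffffffff
def mz (r : ℕ) : ℕ := Nat.land (Nat.shiftRight MZ (Nat.mul 128 r)) 0xffffffffffffffffff
def sg (r : ℕ) : ℕ := dg (rowP PE6 r) 0
def leaf (d : ℕ) : Bool := force (Nat.mod d 4294967296) fun r =>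
  Nat.beq (Nat.mod 41247931725 (bif Nat.ble r 2147483648 then r else Nat.sub 4294967296 r)) 0

def F2 (a0 a1 d0 d1 : ℕ) : ℕ :=
  Nat.add (Nat.mul a0 d0) (Nat.mul 4294967295 (Nat.mul a1 d1))
def F3 (a0 a1 a2 d0 d1 d2 : ℕ) : ℕ :=
  Nat.add (Nat.add (Nat.mul a0 d0) (Nat.mul a2 d2)) (Nat.mul 4294967295 (Nat.mul a1 d1))
def F4 (a0 a1 a2 a3 d0 d1 d2 d3 : ℕ) : ℕ :=
  Nat.add (Nat.add (Nat.mul a0 d0) (Nat.mul a2 d2)) (Nat.mul 4294967295 (Nat.add (Nat.mul a1 d1) (Nat.mul a3 d3)))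
def F5 (a0 a1 a2 a3 a4 d0 d1 d2 d3 d4 : ℕ) : ℕ :=
  Nat.add (Nat.add (Nat.add (Nat.mul a0 d0) (Nat.mul a2 d2)) (Nat.mul a4 d4)) (Nat.mul 4294967295 (Nat.add (Nat.mul a1 d1) (Nat.mul a3 d3)))
def F6 (a0 a1 a2 a3 a4 a5 d0 d1 d2 d3 d4 d5 : ℕ) : ℕ :=
  Nat.add (Nat.add (Nat.add (Nat.mul a0 d0) (Nat.mul a2 d2)) (Nat.mul a4 d4)) (Nat.mul 4294967295 (Nat.add (Nat.add (Nat.mul a1 d1) (Nat.mul a3 d3)) (Nat.mul a5 d5)))

noncomputable def lv6 (A m12345 m02345 m01345 m01245 m01235 m01234 : ℕ) : Bool :=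
  allB (fun b => force (row b) fun R =>
  force (cE R 1 0) fun w0 => force (cE R 1 1) fun w1 => force (cE R 1 2) fun w2 => force (cE R 1 3) fun w3 => force (cE R 1 4) fun w4 => force (cE R 1 5) fun w5 => 
  leaf (F6 w0 w1 w2 w3 w4 w5 m12345 m02345 m01345 m01245 m01235 m01234)) 72 A

noncomputable def lv45 (A Z s m012 m013 m014 m015 m023 m024 m025 m034 m035 m045 m123 m124 m125 m134 m135 m145 m234 m235 m245 m345 : ℕ) : Bool :=
  allB (fun b4 => force (Nat.add s (sg b4)) fun s4 => allB (fun b5 =>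
  bif Nat.beq (Nat.mod (Nat.add s4 (Nat.mul 2 (sg b5))) 3) 2 then
  force (row b4) fun R => force (cE R 4 0) fun u0 => force (cE R 4 1) fun u1 => force (cE R 4 2) fun u2 => force (cE R 4 3) fun u3 => force (cE R 4 4) fun u4 => force (cE R 4 5) fun u5 => 
  force (F4 u0 u1 u2 u3 m123 m023 m013 m012) fun m0123 =>
  force (F4 u0 u1 u2 u4 m124 m024 m014 m012) fun m0124 =>
  force (F4 u0 u1 u2 u5 m125 m025 m015 m012) fun m0125 =>
  force (F4 u0 u1 u3 u4 m134 m034 m014 m013) fun m0134 =>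
  force (F4 u0 u1 u3 u5 m135 m035 m015 m013) fun m0135 =>
  force (F4 u0 u1 u4 u5 m145 m045 m015 m014) fun m0145 =>
  force (F4 u0 u2 u3 u4 m234 m034 m024 m023) fun m0234 =>
  force (F4 u0 u2 u3 u5 m235 m035 m025 m023) fun m0235 =>
  force (F4 u0 u2 u4 u5 m245 m045 m025 m024) fun m0245 =>
  force (F4 u0 u3 u4 u5 m345 m045 m035 m034) fun m0345 =>
  force (F4 u1 u2 u3 u4 m234 m134 m124 m123) fun m1234 =>
  force (F4 u1 u2 u3 u5 m235 m135 m125 m123) fun m1235 =>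
  force (F4 u1 u2 u4 u5 m245 m145 m125 m124) fun m1245 =>
  force (F4 u1 u3 u4 u5 m345 m145 m135 m134) fun m1345 =>
  force (F4 u2 u3 u4 u5 m345 m245 m235 m234) fun m2345 =>
  force (row b5) fun R => force (cE R 5 0) fun v0 => force (cE R 5 1) fun v1 => force (cE R 5 2) fun v2 => force (cE R 5 3) fun v3 => force (cE R 5 4) fun v4 => force (cE R 5 5) fun v5 => 
  force (F5 v0 v1 v2 v3 v4 m1234 m0234 m0134 m0124 m0123) fun m01234 =>
  force (F5 v0 v1 v2 v3 v5 m1235 m0235 m0135 m0125 m0123) fun m01235 =>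
  force (F5 v0 v1 v2 v4 v5 m1245 m0245 m0145 m0125 m0124) fun m01245 =>
  force (F5 v0 v1 v3 v4 v5 m1345 m0345 m0145 m0135 m0134) fun m01345 =>
  force (F5 v0 v2 v3 v4 v5 m2345 m0345 m0245 m0235 m0234) fun m02345 =>
  force (F5 v1 v2 v3 v4 v5 m2345 m1345 m1245 m1235 m1234) fun m12345 =>
  force (Nat.land (Nat.land A (mz b4)) (mz b5)) fun A1 => lv6 A1 m12345 m02345 m01345 m01245 m01235 m01234
  else true) 72 (Nat.land (mm b4) Z)) 72 A

noncomputable def lv3 (A Z s m01 m02 m03 m04 m05 m12 m13 m14 m15 m23 m24 m25 m34 m35 m45 : ℕ) : Bool :=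
  allB (fun b => force (row b) fun R => force (cE R 3 0) fun z0 => force (cE R 3 1) fun z1 => force (cE R 3 2) fun z2 => force (cE R 3 3) fun z3 => force (cE R 3 4) fun z4 => force (cE R 3 5) fun z5 => 
  force (F3 z0 z1 z2 m12 m02 m01) fun m012 =>
  force (F3 z0 z1 z3 m13 m03 m01) fun m013 =>
  force (F3 z0 z1 z4 m14 m04 m01) fun m014 =>
  force (F3 z0 z1 z5 m15 m05 m01) fun m015 =>
  force (F3 z0 z2 z3 m23 m03 m02) fun m023 =>
  force (F3 z0 z2 z4 m24 m04 m02) fun m024 =>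
  force (F3 z0 z2 z5 m25 m05 m02) fun m025 =>
  force (F3 z0 z3 z4 m34 m04 m03) fun m034 =>
  force (F3 z0 z3 z5 m35 m05 m03) fun m035 =>
  force (F3 z0 z4 z5 m45 m05 m04) fun m045 =>
  force (F3 z1 z2 z3 m23 m13 m12) fun m123 =>
  force (F3 z1 z2 z4 m24 m14 m12) fun m124 =>
  force (F3 z1 z2 z5 m25 m15 m12) fun m125 =>
  force (F3 z1 z3 z4 m34 m14 m13) fun m134 =>
  force (F3 z1 z3 z5 m35 m15 m13) fun m135 =>
  force (F3 z1 z4 z5 m45 m15 m14) fun m145 =>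
  force (F3 z2 z3 z4 m34 m24 m23) fun m234 =>
  force (F3 z2 z3 z5 m35 m25 m23) fun m235 =>
  force (F3 z2 z4 z5 m45 m25 m24) fun m245 =>
  force (F3 z3 z4 z5 m45 m35 m34) fun m345 =>
  force (Nat.land (mm b) Z) fun A3 => force (Nat.land Z (mz b)) fun Z3 => lv45 A3 Z3 s m012 m013 m014 m015 m023 m024 m025 m034 m035 m045 m123 m124 m125 m134 m135 m145 m234 m235 m245 m345) 72 A

noncomputable def lv1 (b0 : ℕ) : Bool :=
  force (row b0) fun R => force (cE R 0 0) fun x0 => force (cE R 0 1) fun x1 => force (cE R 0 2) fun x2 => force (cE R 0 3) fun x3 => force (cE R 0 4) fun x4 => force (cE R 0 5) fun x5 => 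
  force (mz b0) fun Z => force (sg b0) fun s0 => allB (fun b => force (row b) fun R => force (cE R 2 0) fun y0 => force (cE R 2 1) fun y1 => force (cE R 2 2) fun y2 => force (cE R 2 3) fun y3 => force (cE R 2 4) fun y4 => force (cE R 2 5) fun y5 => 
  force (F2 y0 y1 x1 x0) fun m01 =>
  force (F2 y0 y2 x2 x0) fun m02 =>
  force (F2 y0 y3 x3 x0) fun m03 =>
  force (F2 y0 y4 x4 x0) fun m04 =>
  force (F2 y0 y5 x5 x0) fun m05 =>
  force (F2 y1 y2 x2 x1) fun m12 =>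
  force (F2 y1 y3 x3 x1) fun m13 =>
  force (F2 y1 y4 x4 x1) fun m14 =>
  force (F2 y1 y5 x5 x1) fun m15 =>
  force (F2 y2 y3 x3 x2) fun m23 =>
  force (F2 y2 y4 x4 x2) fun m24 =>
  force (F2 y2 y5 x5 x2) fun m25 =>
  force (F2 y3 y4 x4 x3) fun m34 =>
  force (F2 y3 y5 x5 x3) fun m35 =>
  force (F2 y4 y5 x5 x4) fun m45 =>
  force (Nat.land (mm b) Z) fun A2 => force (Nat.land Z (mz b)) fun Z2 => force (Nat.add s0 (Nat.mul 2 (sg b))) fun s =>
  lv3 A2 Z2 s m01 m02 m03 m04 m05 m12 m13 m14 m15 m23 m24 m25 m34 m35 m45) 72 (mm b0)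

noncomputable def top (lo n : ℕ) : Bool := (List.range n).all fun k => lv1 (lo + k)

end Cfsg.Agent.H9.E6
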