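import Cfsg.Agent.H4.E27c
import Cfsg.Agent.H4.TC

/-! Packed matrices over the field with four elements, lifts of elements of `²E₆(2)` to the
27-dimensional module, and non-maximality criteria for normalisers. -/

set_option autoImplicit false
set_option maxRecDepth 100000
set_option linter.unusedSectionVars false

namespace Cfsg.Agent.H9.E6

open Cfsg.Lie Cfsg.Agent.H4 Cfsg.Agent.H4.Bit Cfsg.Agent.H4.E27 Matrix

abbrev P2 := ℕ × ℕ

def fo {α : Type} (X : P2) (k : P2 → α) : α := TC.force X.1 fun a => TC.force X.2 fun b => k (a, b)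

theorem fo_eq {α : Type} (X : P2) (k : P2 → α) : fo X k = k X := by simp only [fo, TC.force_eq]

def m4 (X Y : P2) : P2 := fo X fun X => fo Y fun Y => TC.force (mp X.1 Y.1) fun p =>
  (p ^^^ mp X.2 Y.2, mp (X.1 ^^^ X.2) (Y.1 ^^^ Y.2) ^^^ p)

def a4 (X Y : P2) : P2 := fo X fun X => fo Y fun Y => (X.1 ^^^ Y.1, X.2 ^^^ Y.2)

def sm (t : ℕ) (X : P2) : P2 := fo X fun X =>
  ((bif t % 2 == 1 then X.1 else 0) ^^^ (bif t / 2 == 1 then X.2 else 0),
   (bif t % 2 == 1 then X.2 else 0) ^^^ (bif t / 2 == 1 then X.1 ^^^ X.2 else 0))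

def I4 : P2 := (I27, 0)

def pr4 (f : ℕ → P2) : List ℕ → P2
  | [] => I4
  | g :: l => m4 (f g) (pr4 f l)

def pw4 (X : P2) : ℕ → P2
  | 0 => I4
  | k + 1 => m4 X (pw4 X k)

/-- `1 + X + ⋯ + X^k` -/
def ps4 (X : P2) : ℕ → P2
  | 0 => I4
  | k + 1 => a4 (m4 X (ps4 X k)) I4

/-- `X^(2^k)` -/
def sq4 (X : P2) : ℕ → P2
  | 0 => X
  | k + 1 => fo (sq4 X k) fun Y => m4 Y Y

/-- polynomial evaluation -/
def hn4 (X : P2) : List ℕ → P2
  | [] => (0, 0)
  | c :: l => a4 (m4 X (hn4 X l)) (sm c I4)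

/-- `Z + X Z X' + ⋯ + X^k Z X'^k` -/
def av4 (X X' Z : P2) : ℕ → P2
  | 0 => Z
  | k + 1 => a4 (m4 (m4 X (av4 X X' Z k)) X') Z

def xp (r t : ℕ) : P2 :=
  (I27 ^^^ (bif t % 2 == 1 then tE (6 + r) else 0), bif t / 2 == 1 then tE (6 + r) else 0)

def nz (X : P2) : Bool := fo X fun X => (List.range 27).any fun a => (List.range 27).any fun b =>
  tb X.1 (64 * b + a) || tb X.2 (64 * b + a)

def eq4 (X Y : P2) : Bool := fo X fun X => fo Y fun Y => Nat.beq X.1 Y.1 && Nat.beq X.2 Y.2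

theorem eq4_eq {X Y : P2} (h : eq4 X Y = true) : X = Y := by
  simp only [eq4, fo_eq, Bool.and_eq_true, Nat.beq_eq] at h
  exact Prod.ext h.1 h.2

def ne4 (X Y : P2) : Bool := nz (a4 X Y)

def XS : List (ℕ × ℕ × ℕ × ℕ) := [(46,1,46,0),(25,1,25,0),(39,1,39,0),(32,1,32,0),(56,1,36,1),(56,2,36,3),
  (56,3,36,2),(15,1,35,1),(15,2,35,3),(15,3,35,2),(42,1,37,1),(42,2,37,3),(42,3,37,2),(29,1,34,1),(29,2,34,3),
  (29,3,34,2)]

variable {K : Type*} [Field K] [CharP K 2]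

def d4 (ω : K) (X : P2) : M27 K := d27 K X.1 + ω • d27 K X.2

def cK (ω : K) (t : ℕ) : K := (if t % 2 = 1 then 1 else 0) + ω * (if t / 2 = 1 then 1 else 0)

omit [CharP K 2] in
theorem d27_zero : d27 K 0 = 0 := dec_zero _ _ _

omit [CharP K 2] in
theorem d4_I (ω : K) : d4 ω I4 = 1 := by simp [d4, I4, d27_I, d27_zero]

omit [CharP K 2] in
theorem d4_zero (ω : K) : d4 ω (0, 0) = 0 := by simp [d4, d27_zero]

omit [CharP K 2] in
theorem d4_real (ω : K) (A : ℕ) : d4 ω (A, 0) = d27 K A := by simp [d4, d27_zero]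

theorem d4_a4 (ω : K) (X Y : P2) : d4 ω (a4 X Y) = d4 ω X + d4 ω Y := by
  simp only [d4, a4, fo_eq, d27_xor, smul_add]; abel

theorem d4_xp (ω : K) (r t : ℕ) : d4 ω (xp r t) = xh r (cK ω t) := by
  have h0 : d27 K 0 = 0 := d27_zero
  simp only [d4, xp, xh, cK, d27_xor, d27_I, add_smul, add_assoc]
  by_cases h1 : t % 2 = 1 <;> by_cases h2 : t / 2 = 1 <;> simp [h0, h1, h2, Bool.cond_eq_ite]

section
variable {ω : K} (hω : ω ^ 2 + ω + 1 = 0)
include hω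

theorem ww : ω * ω = 1 + ω := by linear_combination hω - (ω + 1) * CharTwo.two_eq_zero (R := K)

theorem d4_m4 (X Y : P2) : d4 ω (m4 X Y) = d4 ω X * d4 ω Y := by
  simp only [d4, m4, fo_eq, TC.force_eq, d27_xor, d27_mp, add_mul, mul_add, smul_mul_assoc, mul_smul_comm,
    smul_add, smul_smul]
  rw [ww hω]
  linear_combination (norm := module) ω • madd_self (d27 K X.1 * d27 K Y.1)

theorem d4_sm (t : ℕ) (X : P2) : d4 ω (sm t X) = cK ω t • d4 ω X := by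
  have h0 : d27 K 0 = 0 := d27_zero
  simp only [d4, sm, fo_eq, cK, d27_xor]
  by_cases h1 : t % 2 = 1 <;> by_cases h2 : t / 2 = 1 <;>
    simp only [h0, h1, h2, Bool.cond_eq_ite, beq_iff_eq, if_true, if_false, d27_xor, smul_add, smul_smul,
      add_mul, mul_one, one_mul, mul_zero, zero_mul, add_zero, zero_add, ww hω, smul_zero, zero_smul] <;> module

theorem d4_pr4 (f : ℕ → P2) (l : List ℕ) : d4 ω (pr4 f l) = (l.map fun g => d4 ω (f g)).prod := by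
  induction l with
  | nil => exact d4_I ω
  | cons g l ih => rw [pr4, d4_m4 hω, ih, List.map_cons, List.prod_cons]

theorem d4_pw4 (X : P2) (k : ℕ) : d4 ω (pw4 X k) = d4 ω X ^ k := by
  induction k with
  | zero => rw [pw4, d4_I, pow_zero]
  | succ k ih => rw [pw4, d4_m4 hω, ih, pow_succ']

theorem d4_ps4 (X : P2) (k : ℕ) : d4 ω (ps4 X k) = ∑ i ∈ Finset.range (k + 1), d4 ω X ^ i := by
  induction k with
  | zero => simp [ps4, d4_I]
  | succ k ih =>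
    rw [ps4, d4_a4, d4_m4 hω, ih, d4_I, Finset.sum_range_succ' _ (k + 1), Finset.mul_sum, pow_zero]
    simp only [pow_succ']

theorem d4_sq4 (X : P2) (k : ℕ) : d4 ω (sq4 X k) = d4 ω X ^ 2 ^ k := by
  induction k with
  | zero => simp [sq4]
  | succ k ih => rw [sq4, fo_eq, d4_m4 hω, ih, pow_succ, pow_mul, pow_two]

theorem d4_av4 (X X' Z : P2) (k : ℕ) :
    d4 ω (av4 X X' Z k) = ∑ i ∈ Finset.range (k + 1), d4 ω X ^ i * d4 ω Z * d4 ω X' ^ i := by
  induction k with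
  | zero => simp [av4]
  | succ k ih =>
    rw [av4, d4_a4, d4_m4 hω, d4_m4 hω, ih, Finset.sum_range_succ' _ (k + 1), Finset.mul_sum, Finset.sum_mul,
      pow_zero, pow_zero, one_mul, mul_one]
    congr 1
    refine Finset.sum_congr rfl fun i _ => ?_
    rw [pow_succ' (d4 ω X), pow_succ (d4 ω X')]; simp only [mul_assoc]

theorem d4_nz {X : P2} (h : nz X = true) : d4 ω X ≠ 0 := by
  simp only [nz, fo_eq, List.any_eq_true, List.mem_range, tb_eq, Bool.or_eq_true] at h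
  obtain ⟨a, ha, b, hb, h⟩ := h
  intro e
  have := congrFun (congrFun e ⟨a, ha⟩) ⟨b, hb⟩
  simp only [d4, d27, Matrix.add_apply, Matrix.smul_apply, dec_apply, bit, smul_eq_mul, Matrix.zero_apply] at this
  revert h this
  cases X.1.testBit (64 * b + a) <;> cases X.2.testBit (64 * b + a) <;> simp
  · rintro rfl; simp at hω
  · intro e
    have : (1 : K) = 0 := by linear_combination hω - ω * e
    exact one_ne_zero this

theorem d4_ne {X Y : P2} (h : ne4 X Y = true) : d4 ω X ≠ d4 ω Y := fun e =>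
  d4_nz hω h (by rw [d4_a4, e, madd_self])

end

/-- Horner evaluation -/
def hn (ω : K) (X : M27 K) : List ℕ → M27 K
  | [] => 0
  | c :: l => X * hn ω X l + cK ω c • 1

theorem d4_hn4 {ω : K} (hω : ω ^ 2 + ω + 1 = 0) (X : P2) (l : List ℕ) : d4 ω (hn4 X l) = hn ω (d4 ω X) l := by
  induction l with
  | nil => exact d4_zero ω
  | cons c l ih => rw [hn4, d4_a4, d4_m4 hω, d4_sm hω, ih, d4_I, hn]

omit [CharP K 2] in
theorem hn_conj (ω : K) {X X' Y : M27 K} (h : X' * Y = Y * X) (l : List ℕ) :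
    hn ω X' l * Y = Y * hn ω X l := by
  induction l with
  | nil => simp [hn]
  | cons c l ih => rw [hn, hn, add_mul, mul_add, mul_assoc, ih, ← mul_assoc, h, mul_assoc]; simp

theorem Tm_bits (v : ℕ) : Tm tE iE (fun c => bit K v (iE c)) = d27 K (comb tE 78 v) := by
  ext i j
  rw [d27, dec_apply, bit_comb, ← enE.sum (fun x => bit K v x * bit K (tE x) (64 * j + i))]
  simp only [Tm, Matrix.sum_apply, Matrix.smul_apply, smul_eq_mul, d27, dec_apply]

/-! ### lifts -/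

theorem itw_inj {y z : M27 K} {g g' : GL chevE6.Idx K} (h : Itw tE iE y g) (h' : Itw tE iE y g')
    (e : z * y = 1) : g = g' := by
  have h1 := (h.inv e (Units.mul_inv g)).mul h'
  rw [e, ← one_smul K (1 : M27 K)] at h1
  have := h1.eq_one enE chkIE one_ne_zero
  rw [← Units.val_mul, Units.val_eq_one, inv_mul_eq_one] at this
  exact this

def Lf (g : twistedE6 K 2) (Y : M27 K) : Prop :=
  Itw tE iE Y ((g : GL chevE6.Idx K) : Matrix chevE6.Idx chevE6.Idx K) ∧ ∃ Y', Y' * Y = 1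

omit [CharP K 2] in
theorem Lf.one : Lf (1 : twistedE6 K 2) 1 := ⟨Itw.one _ _, 1, one_mul _⟩

omit [CharP K 2] in
theorem Lf.mul {g g' : twistedE6 K 2} {Y Y' : M27 K} (h : Lf g Y) (h' : Lf g' Y') : Lf (g * g') (Y * Y') := by
  obtain ⟨h1, Z, h2⟩ := h
  obtain ⟨h1', Z', h2'⟩ := h'
  exact ⟨h1.mul h1', Z' * Z, by rw [mul_assoc, ← mul_assoc Z, h2, one_mul, h2']⟩

omit [CharP K 2] in
theorem Lf.pow {g : twistedE6 K 2} {Y : M27 K} (h : Lf g Y) (k : ℕ) : Lf (g ^ k) (Y ^ k) := by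
  induction k with
  | zero => simpa using Lf.one
  | succ k ih => rw [pow_succ, pow_succ]; exact ih.mul h

omit [CharP K 2] in
theorem Lf.inv {g : twistedE6 K 2} {Y Y' : M27 K} (h : Lf g Y) (e : Y' * Y = 1) : Lf g⁻¹ Y' :=
  ⟨h.1.inv e (Units.mul_inv _), Y, mul_eq_one_comm.1 e⟩

theorem Lf.ex (g : twistedE6 K 2) : ∃ Y, Lf g Y := by
  obtain ⟨x, hx, -⟩ := lift g.2
  exact ⟨x, hx, _, Units.inv_mul x⟩

theorem Lf.scal {g : twistedE6 K 2} {Y Y' : M27 K} (h : Lf g Y) (h' : Lf g Y') : ∃ c : K, c ≠ 0 ∧ Y' = c • Y := by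
  obtain ⟨h1, Z, e⟩ := h
  have h2 := (h1.inv e (Units.mul_inv _)).mul h'.1
  rw [Units.inv_mul] at h2
  obtain ⟨c, hc⟩ := schur h2
  have h3 : Y' = c • Y := by rw [← one_mul Y', ← mul_eq_one_comm.1 e, mul_assoc, hc, mul_smul_comm, mul_one]
  refine ⟨c, ?_, h3⟩
  rintro rfl
  obtain ⟨Z', e'⟩ := h'.2
  rw [h3, zero_smul, mul_zero] at e'
  exact zero_ne_one e'

theorem Lf.inj {g g' : twistedE6 K 2} {Y : M27 K} (h : Lf g Y) (h' : Lf g' Y) : g = g' := by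
  obtain ⟨Z, e⟩ := h.2
  exact Subtype.ext (itw_inj h.1 h'.1 e)

theorem Lf.uniq (h3 : ∀ c : K, c ≠ 0 → c ^ 3 = 1) {p : ℕ} (hp : Nat.Coprime p 3) {g : twistedE6 K 2}
    {Y Y' : M27 K} (h : Lf g Y) (h' : Lf g Y') (e : Y ^ p = 1) (e' : Y' ^ p = 1) : Y' = Y := by
  obtain ⟨c, hc, rfl⟩ := h.scal h'
  rw [smul_pow, e] at e'
  have h1 : c ^ p = 1 := by simpa using congrFun (congrFun e' 0) 0
  have := pow_gcd_eq_one.2 ⟨h1, h3 c hc⟩
  rw [hp.gcd_eq_one, pow_one] at this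
  rw [this, one_smul]

theorem x_sq {r e : ℕ} (h : RootOK K r e) (t : K) : chevE6.x K r t * chevE6.x K r t = 1 := by
  have h1 := (h.itw t).mul (h.itw t)
  rw [h.sq, ← one_smul K (1 : M27 K)] at h1
  exact h1.eq_one enE chkIE one_ne_zero

def LL (Y : M27 K) : Prop := ∃ g, Lf g Y

omit [CharP K 2] in
theorem LL.mul {Y Y' : M27 K} (h : LL Y) (h' : LL Y') : LL (Y * Y') := by
  obtain ⟨g, h⟩ := h; obtain ⟨g', h'⟩ := h'; exact ⟨_, h.mul h'⟩

theorem LL_1 {r e : ℕ} (h : RootOK K r e) {t : K} (hw : [(r, t)] ∈ e6Words K 2) : LL (xh r t) :=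
  ⟨⟨⟨_, _, x_sq h t, x_sq h t⟩, Subgroup.subset_closure ⟨_, hw, by simp [ChevalleyDatum.wordMat]⟩⟩, h.itw t,
    _, h.sq t⟩

theorem LL_2 {r e r' e' : ℕ} (h : RootOK K r e) (h' : RootOK K r' e') {t t' : K}
    (hw : [(r, t), (r', t')] ∈ e6Words K 2) : LL (xh r t * xh r' t') := by
  obtain ⟨g, e⟩ : ∃ g : GL chevE6.Idx K, (g : Matrix chevE6.Idx chevE6.Idx K) = chevE6.x K r t * chevE6.x K r' t' :=
    ⟨⟨_, _, x_sq h t, x_sq h t⟩ * ⟨_, _, x_sq h' t', x_sq h' t'⟩, rfl⟩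
  refine ⟨⟨g, Subgroup.subset_closure ⟨_, hw, by simp [ChevalleyDatum.wordMat, e]⟩⟩, ?_,
    xh r' t' * xh r t, by rw [mul_assoc, ← mul_assoc (xh r t), h.sq, one_mul, h'.sq]⟩
  rw [e]; exact (h.itw t).mul (h'.itw t')

def X0 (j : ℕ) : P2 := m4 (xp (XS.getD j default).1 (XS.getD j default).2.1)
  (xp (XS.getD j default).2.2.1 (XS.getD j default).2.2.2)

theorem LL_X0 {ω : K} (hω : ω ^ 2 + ω + 1 = 0) {j : ℕ} (hj : j < 16) : LL (d4 ω (X0 j)) := by
  have t2 := CharTwo.two_eq_zero (R := K)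
  have a1 : ∀ {r : ℕ}, RootOK K r 0 → r ∈ [e6p2, e6m2, e6p4, e6m4] →
      LL (xh r (cK ω 1) * xh r (cK ω 0)) := fun {r} h hr => by
    rw [show xh r (cK ω 0) = 1 by simp [xh, cK], mul_one]
    exact LL_1 h (Or.inl ⟨_, by simp [cK], r, hr, rfl⟩)
  have a2 : ∀ {r r' e e' : ℕ} (t t' : ℕ), RootOK K r e → RootOK K r' e' →
      (r, r') ∈ [(e6p1, e6p6), (e6m1, e6m6), (e6p3, e6p5), (e6m3, e6m5)] → cK ω t' = cK ω t ^ 2 →
      LL (xh r (cK ω t) * xh r' (cK ω t')) := fun {r r' e e'} t t' h h' hr h2 =>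
    LL_2 h h' (Or.inr ⟨_, _, hr, by rw [h2]⟩)
  have c1 : cK ω 1 = cK ω 1 ^ 2 := by simp [cK]
  have c2 : cK ω 3 = cK ω 2 ^ 2 := by simp [cK]; linear_combination -hω + (ω + 1) * t2
  have c3 : cK ω 2 = cK ω 3 ^ 2 := by simp [cK]; linear_combination -hω
  rw [X0, d4_m4 hω, d4_xp, d4_xp]
  interval_cases j
  exacts [a1 ok46 (by decide), a1 ok25 (by decide), a1 ok39 (by decide), a1 ok32 (by decide),
    a2 1 1 ok56 ok36 (by decide) c1, a2 2 3 ok56 ok36 (by decide) c2, a2 3 2 ok56 ok36 (by decide) c3,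
    a2 1 1 ok15 ok35 (by decide) c1, a2 2 3 ok15 ok35 (by decide) c2, a2 3 2 ok15 ok35 (by decide) c3,
    a2 1 1 ok42 ok37 (by decide) c1, a2 2 3 ok42 ok37 (by decide) c2, a2 3 2 ok42 ok37 (by decide) c3,
    a2 1 1 ok29 ok34 (by decide) c1, a2 2 3 ok29 ok34 (by decide) c2, a2 3 2 ok29 ok34 (by decide) c3]

theorem LL_pr4 {ω : K} (hω : ω ^ 2 + ω + 1 = 0) {f : ℕ → P2} {n : ℕ} (hf : ∀ j < n, LL (d4 ω (f j)))
    {w : List ℕ} (hw : w.all (fun j => decide (j < n)) = true) : LL (d4 ω (pr4 f w)) := by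
  induction w with
  | nil => rw [pr4, d4_I]; exact ⟨_, Lf.one⟩
  | cons g w ih =>
    simp only [List.all_cons, Bool.and_eq_true, decide_eq_true_eq] at hw
    rw [pr4, d4_m4 hω]
    exact (hf g hw.1).mul (ih hw.2)

omit [CharP K 2] in
theorem exists_w [Fintype K] (hK : Fintype.card K = 4) : (∀ a : K, a ≠ 0 → a ^ 3 = 1) ∧
    ∃ ω : K, ω ^ 2 + ω + 1 = 0 := by
  have h3 : ∀ a : K, a ≠ 0 → a ^ 3 = 1 := fun a ha => by
    have := FiniteField.pow_card_sub_one_eq_one a ha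
    rwa [hK] at this
  obtain ⟨ω, h0, h1⟩ : ∃ x : K, x ≠ 0 ∧ x ≠ 1 := by
    classical
    by_contra hh
    push Not at hh
    have : (Finset.univ : Finset K) ⊆ {0, 1} := fun x _ => by
      by_cases h0 : x = 0
      · simp [h0]
      · simp [hh x h0]
    have := (Finset.card_le_card this).trans Finset.card_le_two
    rw [Finset.card_univ, hK] at this
    omega
  exact ⟨h3, ω, mul_left_cancel₀ (sub_ne_zero.2 h1) (by linear_combination h3 ω h0)⟩

theorem cK_surj (h3 : ∀ c : K, c ≠ 0 → c ^ 3 = 1) {ω : K} (hω : ω ^ 2 + ω + 1 = 0) (c : K) :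
    ∃ t < 4, c = cK ω t := by
  have t2 := CharTwo.two_eq_zero (R := K)
  by_cases h0 : c = 0
  · exact ⟨0, by norm_num, by simp [cK, h0]⟩
  have h1 : (c - 1) * ((c - ω) * (c - (1 + ω))) = 0 := by
    linear_combination h3 c h0 + (c - 1) * hω - (c - 1) * (c * ω + c + 1) * t2
  rcases mul_eq_zero.1 h1 with h | h
  · exact ⟨1, by norm_num, by simp [cK, sub_eq_zero.1 h]⟩
  rcases mul_eq_zero.1 h with h | h
  · exact ⟨2, by norm_num, by simp [cK, sub_eq_zero.1 h]⟩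
  · exact ⟨3, by norm_num, by simp [cK, sub_eq_zero.1 h]⟩

end Cfsg.Agent.H9.E6
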