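import Cfsg.Agent.H9.E6.DatA
import Cfsg.Agent.H9.E6.DatB
import Cfsg.Agent.H9.E6.DatC

/-! Normalisers of `p`-subgroups of `²E₆(2)`, given the bound on the Sylow subgroups. -/

set_option autoImplicit false
set_option maxRecDepth 100000
set_option linter.unusedSectionVars false

namespace Cfsg.Agent.H9.E6

open Cfsg.Lie Cfsg.Agent.H4 Cfsg.Agent.H4.Bit Cfsg.Agent.H4.E27 Matrix

def L0 : ℕ := 3 ^ 6 * 5 ^ 2 * 7 ^ 2 * 11 * 13 * 17 * 19

theorem isPGroup_zp {G : Type*} [Group G] {p : ℕ} [Fact p.Prime] {x : G} (hx : orderOf x = p) :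
    IsPGroup p (Subgroup.zpowers x) := IsPGroup.of_card (n := 1) (by rw [Nat.card_zpowers, hx, pow_one])

theorem eq_zp {G : Type*} [Group G] [Finite G] {p : ℕ} [hp : Fact p.Prime] {x : G} {P : Subgroup G}
    (hc : Nat.card P ∣ p) (hx : x ∈ P) (h1 : x ≠ 1) : P = Subgroup.zpowers x := by
  have h2 : Subgroup.zpowers x ≤ P := Subgroup.zpowers_le.2 hx
  have h3 := (Subgroup.card_dvd_of_le h2).trans hc
  rw [Nat.card_zpowers] at h3
  have h4 := (hp.out.eq_one_or_self_of_dvd _ h3).resolve_left (by simpa using h1)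
  refine (Subgroup.eq_of_le_of_card_ge h2 ?_).symm
  rw [Nat.card_zpowers, h4]; exact Nat.le_of_dvd hp.out.pos hc

theorem cyc_case {G : Type*} [Group G] [Finite G] {p : ℕ} [hp : Fact p.Prime]
    (hb : ∀ Q : Subgroup G, IsPGroup p Q → Nat.card Q ∣ p) {x : G} (hx : orderOf x = p)
    (h : ¬ IsCoatom (Subgroup.normalizer (Subgroup.zpowers x : Set G))) {P : Subgroup G} (hP : IsPGroup p P)
    (h1 : P ≠ ⊥) : ¬ IsCoatom (Subgroup.normalizer (P : Set G)) := by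
  obtain ⟨g, hg⟩ := conj_le hb hp.out.pos (isPGroup_zp hx) (by rw [Nat.card_zpowers, hx]) hP
  intro hc
  have h2 := coatom_conj P g hc
  have h3 : P.map (MulAut.conj g).toMonoidHom ≠ ⊥ := by
    rwa [Ne, Subgroup.map_eq_bot_iff_of_injective _ (MulAut.conj g).injective]
  generalize P.map (MulAut.conj g).toMonoidHom = P' at hg h2 h3
  have h4 : Nat.card P' ∣ p := hx ▸ Nat.card_zpowers x ▸ Subgroup.card_dvd_of_le hg
  have h5 := (hp.out.eq_one_or_self_of_dvd _ h4).resolve_left (by simpa using h3)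
  rw [Subgroup.eq_of_le_of_card_ge hg (by rw [Nat.card_zpowers, hx, h5])] at h2
  exact h h2

theorem seven_case {G : Type*} [Group G] [Finite G]
    (hb : ∀ Q : Subgroup G, IsPGroup 7 Q → Nat.card Q ∣ 49) {a b : G} (hc : Commute a b) (ha : orderOf a = 7)
    (hb7 : b ^ 7 = 1) (hab : ∀ i < 7, b ≠ a ^ i)
    (h : ¬ IsCoatom (Subgroup.normalizer (Subgroup.zpowers a : Set G)))
    (h' : ∀ i < 7, ¬ IsCoatom (Subgroup.normalizer (Subgroup.zpowers (a ^ i * b) : Set G)))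
    (h'' : ¬ IsCoatom (Subgroup.normalizer (Q2 hc : Set G))) {P : Subgroup G} (hP : IsPGroup 7 P)
    (h1 : P ≠ ⊥) : ¬ IsCoatom (Subgroup.normalizer (P : Set G)) := by
  have : Fact (Nat.Prime 7) := ⟨by norm_num⟩
  have ha7 : a ^ 7 = 1 := ha ▸ pow_orderOf_eq_one a
  have hQ : IsPGroup 7 (Q2 hc) := by
    rintro ⟨_, i, j, rfl⟩
    refine ⟨1, Subtype.ext ?_⟩
    show (a ^ i * b ^ j) ^ 7 ^ 1 = 1
    rw [pow_one, (hc.pow_pow i j).mul_pow, ← pow_mul, ← pow_mul, mul_comm i, mul_comm j, pow_mul, pow_mul, ha7, hb7]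
    simp
  have d49 : ∀ n : ℕ, n ∣ 49 → n = 1 ∨ n = 7 ∨ n = 49 := fun n hn => by
    obtain ⟨k, hk, rfl⟩ := (Nat.dvd_prime_pow (p := 7) (m := 2) (by norm_num)).1 hn
    interval_cases k <;> simp
  have hbz : b ∉ Subgroup.zpowers a := fun hz => by
    obtain ⟨k, hk⟩ := mem_powers_iff_mem_zpowers.2 hz
    exact hab (k % 7) (Nat.mod_lt _ (by norm_num)) (by rw [← hk]; exact pow_eq_pow_mod k ha7)
  have ha1 : a ≠ 1 := by rintro rfl; simp at ha
  have haQ : a ∈ Q2 hc := ⟨1, 0, by simp⟩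
  have hbQ : b ∈ Q2 hc := ⟨0, 1, by simp⟩
  have hQc : Nat.card (Q2 hc) = 49 := by
    rcases d49 _ (hb _ hQ) with h2 | h2 | h2
    · exact absurd (eq_zp (p := 7) (h2 ▸ one_dvd _) haQ ha1 ▸ hbQ) hbz
    · exact absurd (eq_zp (p := 7) (h2 ▸ dvd_rfl) haQ ha1 ▸ hbQ) hbz
    · exact h2
  obtain ⟨g, hg⟩ := conj_le hb (by norm_num) hQ hQc.ge hP
  intro hc'
  have h2 := coatom_conj P g hc'
  have h3 : P.map (MulAut.conj g).toMonoidHom ≠ ⊥ := by
    rwa [Ne, Subgroup.map_eq_bot_iff_of_injective _ (MulAut.conj g).injective]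
  generalize P.map (MulAut.conj g).toMonoidHom = P' at hg h2 h3
  rcases d49 _ (hQc ▸ Subgroup.card_dvd_of_le hg) with h4 | h4 | h4
  · exact h3 (by simpa using h4)
  · obtain ⟨⟨y, hy⟩, hy1⟩ := (Subgroup.ne_bot_iff_exists_ne_one).1 h3
    have hy2 : y ≠ 1 := fun e => hy1 (Subtype.ext e)
    obtain ⟨i, j, rfl⟩ := hg hy
    rw [pow_eq_pow_mod j hb7] at hy hy2
    have hj := Nat.mod_lt j (show 0 < 7 by norm_num)
    generalize j % 7 = j at hy hy2 hj
    by_cases hj0 : j = 0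
    · subst hj0
      rw [pow_zero, mul_one] at hy hy2
      rw [eq_zp (p := 7) (h4 ▸ dvd_rfl) hy hy2,
        ← eq_zp (p := 7) (by rw [Nat.card_zpowers, ha]) (pow_mem (Subgroup.mem_zpowers a) i) hy2] at h2
      exact h h2
    · obtain ⟨m, hm⟩ : ∃ m, j * m % 7 = 1 := by
        interval_cases j
        exacts [absurd rfl hj0, ⟨1, rfl⟩, ⟨4, rfl⟩, ⟨5, rfl⟩, ⟨2, rfl⟩, ⟨3, rfl⟩, ⟨6, rfl⟩]
      have h5 := pow_mem hy m
      rw [(hc.pow_pow i j).mul_pow, ← pow_mul, ← pow_mul, pow_eq_pow_mod (j * m) hb7, hm, pow_one,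
        pow_eq_pow_mod _ ha7] at h5
      rw [eq_zp (p := 7) (h4 ▸ dvd_rfl) h5 fun e => hbz ?_] at h2
      · exact h' _ (Nat.mod_lt _ (by norm_num)) h2
      · rw [eq_inv_of_mul_eq_one_right e]
        exact inv_mem (pow_mem (Subgroup.mem_zpowers a) _)
  · rw [Subgroup.eq_of_le_of_card_ge hg (by rw [hQc, h4])] at h2
    exact h'' h2

variable {K : Type*} [Field K] [CharP K 2] [Finite K]

theorem LL_XX {ω : K} (hω : ω ^ 2 + ω + 1 = 0) (j : ℕ) (hj : j < 16) : LL (d4 ω (XX j)) := by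
  rw [eq4_eq (all_range XX_ok hj)]; exact LL_X0 hω hj

theorem LL_YY {ω : K} (hω : ω ^ 2 + ω + 1 = 0) (j : ℕ) (hj : j < 7) : LL (d4 ω (YY j)) := by
  have := all_range YY_ok hj
  rw [Bool.and_eq_true] at this
  rw [eq4_eq this.2]; exact LL_pr4 hω (LL_XX hω) this.1

theorem card_dvd {G : Type*} [Group G] [Finite G] {p n m : ℕ} [hp : Fact p.Prime] {Q : Subgroup G}
    (hQ : IsPGroup p Q) (h : Nat.card Q ∣ n * m) (hm : Nat.Coprime p m) : Nat.card Q ∣ n := by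
  obtain ⟨k, hk⟩ := IsPGroup.iff_card.1 hQ
  rw [hk] at h ⊢
  exact (hm.pow_left k).dvd_of_dvd_mul_right h

theorem partB (h3 : ∀ c : K, c ≠ 0 → c ^ 3 = 1) {ω : K} (hω : ω ^ 2 + ω + 1 = 0) {p : ℕ} [hp : Fact p.Prime]
    (h5 : 5 < p) (hb : ∀ Q : Subgroup (twistedE6 K 2), IsPGroup p Q → Nat.card Q ∣ L0)
    {P : Subgroup (twistedE6 K 2)} (hP : IsPGroup p P) (h1 : P ≠ ⊥) :
    ¬ IsCoatom (Subgroup.normalizer (P : Set (twistedE6 K 2))) := by
  have hpd : p ∣ L0 := by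
    obtain ⟨k, hk⟩ := IsPGroup.iff_card.1 hP
    have := hb P hP
    rw [hk] at this
    refine (dvd_pow_self p ?_).trans this
    rintro rfl
    exact h1 (by simpa using hk)
  have hpp := hp.out
  have hcase : p = 7 ∨ p = 11 ∨ p = 13 ∨ p = 17 ∨ p = 19 := by
    simp only [L0, hpp.dvd_mul] at hpd
    have e : ∀ q : ℕ, q.Prime → p ∣ q → p = q := fun q hq h => (Nat.prime_dvd_prime_iff_eq hpp hq).1 h
    rcases hpd with (((((h | h) | h) | h) | h) | h) | h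
    · have := e 3 (by norm_num) (hpp.dvd_of_dvd_pow h); omega
    · have := e 5 (by norm_num) (hpp.dvd_of_dvd_pow h); omega
    · have := e 7 (by norm_num) (hpp.dvd_of_dvd_pow h); omega
    · have := e 11 (by norm_num) h; omega
    · have := e 13 (by norm_num) h; omega
    · have := e 17 (by norm_num) h; omega
    · have := e 19 (by norm_num) h; omega
  have X0 := LL_XX hω 0 (by norm_num)
  have Y0 := LL_YY hω 0 (by norm_num)
  rcases hcase with rfl | rfl | rfl | rfl | rfl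
  · obtain ⟨a, ha⟩ : LL (d4 ω xa) := LL_pr4 hω (LL_YY hω) (by decide)
    obtain ⟨b, hb'⟩ : LL (d4 ω xb) := LL_pr4 hω (LL_YY hω) (by decide)
    have h := c7
    simp only [fo_eq, Bool.and_eq_true] at h
    obtain ⟨⟨⟨a1, a2⟩, a3⟩, a4⟩ := h
    have a5 := a1
    simp only [chkQ, fo_eq, Bool.and_eq_true] at a5
    obtain ⟨⟨⟨⟨⟨⟨e1, e2⟩, e3⟩, -⟩, -⟩, -⟩, -⟩ := a5
    have b2 := congrArg (d4 ω) (eq4_eq e2)
    have b3 := congrArg (d4 ω) (eq4_eq e3)
    rw [d4_pw4 hω, d4_I] at b2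
    rw [d4_m4 hω, d4_m4 hω] at b3
    have hc : Commute a b := (ha.mul hb').inj (by rw [b3]; exact hb'.mul ha)
    have b1 := congrArg (d4 ω) (eq4_eq e1)
    rw [d4_pw4 hω, d4_I] at b1
    refine seven_case (fun Q hQ => card_dvd (m := 3 ^ 6 * 5 ^ 2 * 11 * 13 * 17 * 19) hQ (hb Q hQ) (by norm_num))
      hc (ord_of_chk hω h3 (by norm_num) ha e1 a3) ((hb'.pow 7).inj (b2 ▸ Lf.one)) (fun i hi e => ?_)
      (cyc_crit h3 hω (by norm_num) (by decide) ha (LL_pr4 hω (LL_YY hω) (by decide)) X0 a2) (fun i hi => ?_)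
      (Q_crit h3 hω ha hb' hc Y0 X0 a1) hP h1
    · have := all_range a4 hi
      simp only [Bool.and_eq_true] at this
      refine d4_ne hω this.1.2 ?_
      rw [d4_pw4 hω]
      exact (ha.pow i).uniq h3 (p := 7) (by norm_num) (e ▸ hb')
        (by rw [← pow_mul, mul_comm, pow_mul, b1, one_pow]) b2
    · have := all_range a4 hi
      simp only [Bool.and_eq_true] at this
      exact cyc_crit h3 hω (by norm_num) (by decide) (by rw [d4_m4 hω, d4_pw4 hω]; exact (ha.pow i).mul hb')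
        (LL_pr4 hω (LL_YY hω) this.1.1) X0 this.2
  · obtain ⟨x, hx⟩ : LL (d4 ω x11) := LL_pr4 hω (LL_XX hω) (by decide)
    have h := c11
    rw [Bool.and_eq_true] at h
    have h' := h.1
    simp only [chkCyc, fo_eq, Bool.and_eq_true] at h'
    exact cyc_case (fun Q hQ => card_dvd (m := 3 ^ 6 * 5 ^ 2 * 7 ^ 2 * 13 * 17 * 19) hQ (hb Q hQ) (by norm_num))
      (ord_of_chk hω h3 (by norm_num) hx h'.1.1.1.1 h.2)
      (cyc_crit h3 hω (by norm_num) (by decide) hx (LL_pr4 hω (LL_XX hω) (by decide)) X0 h.1) hP h1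
  · obtain ⟨x, hx⟩ : LL (d4 ω x13) := LL_pr4 hω (LL_YY hω) (by decide)
    have h := c13
    rw [Bool.and_eq_true] at h
    have h' := h.1
    simp only [chkCyc, fo_eq, Bool.and_eq_true] at h'
    exact cyc_case (fun Q hQ => card_dvd (m := 3 ^ 6 * 5 ^ 2 * 7 ^ 2 * 11 * 17 * 19) hQ (hb Q hQ) (by norm_num))
      (ord_of_chk hω h3 (by norm_num) hx h'.1.1.1.1 h.2)
      (cyc_crit h3 hω (by norm_num) (by decide) hx Y0 X0 h.1) hP h1
  · obtain ⟨x, hx⟩ : LL (d4 ω x17) := LL_pr4 hω (LL_XX hω) (by decide)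
    have h := c17
    rw [Bool.and_eq_true] at h
    have h' := h.1
    simp only [chkCyc, fo_eq, Bool.and_eq_true] at h'
    exact cyc_case (fun Q hQ => card_dvd (m := 3 ^ 6 * 5 ^ 2 * 7 ^ 2 * 11 * 13 * 19) hQ (hb Q hQ) (by norm_num))
      (ord_of_chk hω h3 (by norm_num) hx h'.1.1.1.1 h.2)
      (cyc_crit h3 hω (by norm_num) (by decide) hx X0 (LL_XX hω 4 (by norm_num)) h.1) hP h1
  · obtain ⟨x, hx⟩ : LL (d4 ω x19) := LL_pr4 hω (LL_YY hω) (by decide)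
    have h := c19D
    rw [Bool.and_eq_true] at h
    have h' := h.1
    simp only [chkD, fo_eq, Bool.and_eq_true] at h'
    exact cyc_case (fun Q hQ => card_dvd (m := 3 ^ 6 * 5 ^ 2 * 7 ^ 2 * 11 * 13 * 17) hQ (hb Q hQ) (by norm_num))
      (ord_of_chk hω h3 (by norm_num) hx h'.1.1.1.1.1.1.1.1 h.2)
      (crit19 h3 hω hx (LL_YY hω 4 (by norm_num)) X0 c19A c19A' c19B c19C h.1) hP h1

end Cfsg.Agent.H9.E6
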