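import Cfsg.Agent.H9.E6.Tw
import Cfsg.Agent.H9.E6.EnOK

/-! The orders of the `p`-subgroups of `²E₆(2)`, `p > 5`. -/

set_option autoImplicit false
set_option maxRecDepth 100000
set_option linter.unusedSectionVars false

namespace Cfsg.Agent.H9.E6

open Cfsg.Lie Cfsg.Agent.H4.Sl Cfsg.Agent.H4.Sl.RS

variable {K : Type*} [Field K] [CharP K 2]

noncomputable def piL (K : Type*) [Field K] : Module.End K (L (Fin 6) (Fin 72) K) :=
  S6.mkL K ((hh (Φ := Fin 72) K).comp γ.toAddMonoidHom) fun a => S6.e K (γ a)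

theorem piL_e {a : Fin 6 → ℤ} (ha : S6.R a) : piL K (S6.e K a) = S6.e K (γ a) := mkL_e _ _ ha
theorem piL_hh (v : Fin 6 → ℤ) : piL K (hh K v) = hh K (γ v) := mkL_hh _ _ v

theorem piL_sq : piL K * piL K = 1 :=
  lin_ext (S := S6) (fun a ha => by rw [Module.End.mul_apply, piL_e ha, piL_e (γ_R ha), γ_γ]; rfl)
    fun v => by rw [Module.End.mul_apply, piL_hh, piL_hh, γ_γ]; rfl

noncomputable def piU (K : Type*) [Field K] [CharP K 2] : Γ (Fin 6) (Fin 72) K := ⟨piL K, piL K, piL_sq, piL_sq⟩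

theorem mon_pi : S6.Mon (piU K) γ fun _ => 1 :=
  ⟨γ_b, fun _ => γ_R, Function.Involutive.bijective γ_γ, rfl, fun _ _ => (one_mul _).symm,
    fun _ ha => by rw [one_smul]; exact piL_e ha, piL_hh⟩

def ρ0 : Fin 6 → ℤ := ![1, 0, -1, 0, 1, -1]

def N3' (K : Type*) [Field K] [CharP K 2] : Subgroup (Γ (Fin 6) (Fin 72) K) where
  carrier := {n | ∃ w χ, S6.Mon n w χ ∧ ∃ x, w ρ0 = ρ0 + (3 : ℤ) • x}
  one_mem' := ⟨_, _, Mon.one, 0, by simp⟩
  mul_mem' := by
    rintro _ _ ⟨w, χ, h, x, e⟩ ⟨w', χ', h', x', e'⟩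
    exact ⟨_, _, h.mul h', x + w x', by rw [LinearMap.comp_apply, e', map_add, e, map_smul, smul_add, add_assoc]⟩
  inv_mem' := by
    rintro _ ⟨w, χ, h, x, e⟩
    refine ⟨_, _, h.inv, -h.wi x, ?_⟩
    have := h.wi_w ρ0
    rw [e, map_add, map_smul] at this
    rw [smul_neg, ← sub_eq_add_neg, eq_sub_iff_add_eq, this]

theorem isN3 : S6.IsN (N3' K) :=
  ⟨fun _ ⟨w, χ, h, _⟩ => ⟨w, χ, h⟩, fun r hr t ht => ⟨_, _, mon_nn hr ht, -(r 0 - r 2 + r 4 - r 5) • r, by
    rw [σ_apply, S6_b, b6_apply, smul_smul, sub_eq_add_neg, ← neg_smul]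
    congr 2
    simp [ρ0]; ring⟩⟩

theorem hW6 {p : ℕ} [hp : Fact p.Prime] (h5 : 5 < p) (n : Γ (Fin 6) (Fin 72) K) (w : (Fin 6 → ℤ) →ₗ[ℤ] (Fin 6 → ℤ))
    (χ : (Fin 6 → ℤ) → K) (h : S6.Mon n w χ) (e : (w : Module.End ℤ (Fin 6 → ℤ)) ^ p = 1) :
    w = LinearMap.id := by
  by_contra h1
  have h2 := rank_prime w e h1
  rw [Fintype.card_fin] at h2
  have h7 : p = 7 := by
    have h6 : p ≠ 6 := by rintro rfl; exact absurd hp.out (by norm_num)
    omega
  subst h7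
  choose g hg using fun a : Fin 72 => h.root _ (R_ρ a)
  have hgi : Function.Injective g := fun a b e => S6.inj (h.bij.1 (by rw [← hg, ← hg, e]))
  let s : Equiv.Perm (Fin 72) := Equiv.ofBijective g (Finite.injective_iff_bijective.1 hgi)
  have hs : ∀ (k : ℕ) a, S6.ρ ((s ^ k) a) = ((w : Module.End ℤ (Fin 6 → ℤ)) ^ k) (S6.ρ a) := fun k a => by
    induction k with
    | zero => rfl
    | succ k ih => rw [pow_succ', pow_succ', Equiv.Perm.mul_apply, Module.End.mul_apply, ← ih]; exact hg _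
  obtain ⟨a, ha⟩ := Equiv.Perm.exists_fixed_point_of_prime (p := 7) (n := 1) (by simp) (σ := s)
    (Equiv.ext fun a => S6.inj (by rw [pow_one, hs, e]; rfl))
  have h3 : S6.ρ a ∈ LinearMap.ker ((w : Module.End ℤ (Fin 6 → ℤ)) - 1) := by
    have : g a = a := ha
    rw [LinearMap.mem_ker, LinearMap.sub_apply, ← hg, this]; simp
  have h4 : Module.finrank ℤ (LinearMap.ker ((w : Module.End ℤ (Fin 6 → ℤ)) - 1)) = 0 := by omega
  rw [Submodule.finrank_eq_zero] at h4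
  rw [h4] at h3
  exact (R_ρ a).ne_zero h3

noncomputable def toG (K : Type*) [Field K] : GL chevE6.Idx K →* Γ (Fin 6) (Fin 72) K := toΓ chevE6 K

theorem toΓ_x {g : GL chevE6.Idx K} {r : Fin 72} {t : K}
    (e : (g : Matrix chevE6.Idx chevE6.Idx K) = chevE6.wordMat K [(r, t)]) :
    toG K g = S6.X K (S6.ρ r) t :=
  tab6.toΓ_eq (r := r) (by
    rw [e]; simp only [ChevalleyDatum.wordMat, List.map_cons, List.map_nil, List.prod_cons, List.prod_nil, mul_one]
    exact dif_pos r.2)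

theorem toΓ_xx {g : GL chevE6.Idx K} {r r' : Fin 72} {t t' : K}
    (e : (g : Matrix chevE6.Idx chevE6.Idx K) = chevE6.wordMat K [(r, t), (r', t')]) :
    toG K g = S6.X K (S6.ρ r) t * S6.X K (S6.ρ r') t' := by
  ext1
  rw [toG]
  erw [coe_toΓ]
  rw [e, Units.val_mul, coe_X (R_ρ r), coe_X (R_ρ r')]
  simp only [ChevalleyDatum.wordMat, List.map_cons, List.map_nil, List.prod_cons, List.prod_nil, mul_one]
  rw [Matrix.toLin'_mul, show chevE6.x K r t = _ from dif_pos r.2, show chevE6.x K r' t' = _ from dif_pos r'.2,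
    tab6.link, tab6.link]
  rfl

theorem fixed {K' : Type*} [Field K'] [CharP K' 2] (φ : K →+* K') (h4 : ∀ t : K, t ^ 4 = t)
    {g : GL chevE6.Idx K} (hg : g ∈ twistedE6 K 2) : FrΓ φ (toG K g) ∈ S6.U K' Set.univ ∧
      piU K' * FrΓ (frobenius K' 2) (FrΓ φ (toG K g)) * (piU K')⁻¹ = FrΓ φ (toG K g) := by
  have hX : ∀ (r : Fin 72) (t : K'), piU K' * FrΓ (frobenius K' 2) (S6.X K' (S6.ρ r) t) * (piU K')⁻¹ =
      S6.X K' (S6.ρ ⟨gam r, (gam_ok r).1⟩) (t ^ 2) := fun r t => by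
    rw [FrΓ_X _ (R_ρ r), mon_pi.conj' (R_ρ r), one_mul, γ_ρ, frobenius_def]
  have hU : ∀ (r : Fin 72) (t : K'), S6.X K' (S6.ρ r) t ∈ S6.U K' Set.univ := fun r t =>
    X_mem (Set.mem_univ _) (R_ρ r) t
  induction hg using Subgroup.closure_induction with
  | mem g hg =>
    obtain ⟨w, hw, e⟩ := hg
    have a1 : ∀ (r : Fin 72) (t : K), t ^ 2 = t → gam r = r → w = [((r : ℕ), t)] →
        FrΓ φ (toG K g) ∈ S6.U K' Set.univ ∧
        piU K' * FrΓ (frobenius K' 2) (FrΓ φ (toG K g)) * (piU K')⁻¹ = FrΓ φ (toG K g) := by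
      rintro r t ht hr rfl
      rw [toΓ_x e, FrΓ_X _ (R_ρ r), hX, ← map_pow, ht]
      exact ⟨hU _ _, by simp only [hr]⟩
    have a2 : ∀ (r r' : Fin 72) (t : K), gam r = r' → gam r' = r → ipIs PE6 QE6 512 r r' = true →
        w = [((r : ℕ), t), ((r' : ℕ), t ^ 2)] → FrΓ φ (toG K g) ∈ S6.U K' Set.univ ∧
        piU K' * FrΓ (frobenius K' 2) (FrΓ φ (toG K g)) * (piU K')⁻¹ = FrΓ φ (toG K g) := by
      rintro r r' t hr hr' hb rfl
      rw [toΓ_xx e, map_mul, FrΓ_X _ (R_ρ r), FrΓ_X _ (R_ρ r')]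
      refine ⟨mul_mem (hU _ _) (hU _ _), ?_⟩
      rw [map_mul, ← conj_mul, hX, hX, ← map_pow, ← map_pow, ← pow_mul, h4]
      simp only [hr, hr']
      exact (X_comm (R_ρ r) (R_ρ r') (by rw [(S6_ip _ _ _).1 hb]; norm_num) _ _).symm
    rcases hw with ⟨t, ht, r, hr, e'⟩ | ⟨t, r, hr, e'⟩
    · simp only [List.mem_cons, List.not_mem_nil, or_false] at hr
      rcases hr with rfl | rfl | rfl | rfl
      exacts [a1 46 t ht rfl e', a1 25 t ht rfl e', a1 39 t ht rfl e', a1 32 t ht rfl e']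
    · simp only [List.mem_cons, List.not_mem_nil, or_false] at hr
      rcases hr with rfl | rfl | rfl | rfl
      exacts [a2 56 36 t rfl rfl (by decide +kernel) e', a2 15 35 t rfl rfl (by decide +kernel) e',
        a2 42 37 t rfl rfl (by decide +kernel) e', a2 29 34 t rfl rfl (by decide +kernel) e']
  | one => simp
  | mul g g' _ _ h h' =>
    rw [map_mul, map_mul]
    exact ⟨mul_mem h.1 h'.1, by rw [map_mul, ← conj_mul, h.2, h'.2]⟩
  | inv g _ h =>
    rw [map_inv, map_inv]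
    exact ⟨inv_mem h.1, by rw [map_inv, ← conj_inv, h.2]⟩

theorem sylow_bound [Finite K] (h4 : ∀ t : K, t ^ 4 = t) {p : ℕ} [hp : Fact p.Prime] (h5 : 5 < p)
    (Q : Subgroup (twistedE6 K 2)) (hQ : IsPGroup p Q) : Nat.card Q ∣ 41247931725 := by
  have : NeZero (p : K) := ⟨fun h => by
    rw [CharP.cast_eq_zero_iff K 2] at h
    have := (Nat.prime_dvd_prime_iff_eq Nat.prime_two hp.out).1 h
    omega⟩
  have : NeZero p := ⟨hp.out.ne_zero⟩
  let K' := CyclotomicField p K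
  have : FiniteDimensional K K' := IsCyclotomicExtension.finiteDimensional {p} K K'
  have : Finite K' := Module.finite_of_finite K
  have : CharP K' 2 := charP_of_injective_algebraMap (algebraMap K K').injective 2
  have hζ := IsCyclotomicExtension.zeta_spec p K K'
  obtain ⟨f, hf, -, f1, f2⟩ := S6.exists_gen ht
  obtain ⟨n, ⟨w', χ', hw', x, hx⟩, w, χ, hw, Ψ, h1, h2⟩ := tw_bound hb6 hf (by omega) hζ.pow_eq_one
    (hζ.ne_one hp.out.one_lt) (hW6 h5) mon_pi γ_γ (fun r hr h => f1 _ (γ_R hr) (by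
      rw [ht_γ]; exact lt_of_le_of_ne (f2 r hr h) (ht_ne hr).symm)) isN3 hQ
    ((FrΓ (algebraMap K K')).comp ((toG K).comp ((twistedE6 K 2).subtype.comp Q.subtype)))
    ((FrΓ_inj (algebraMap K K')).comp ((toΓ_inj K).comp (Subtype.val_injective.comp Subtype.val_injective)))
    (fun y => (fixed (algebraMap K K') h4 y.1.2).1) (fun y => (fixed (algebraMap K K') h4 y.1.2).2)
  have e : w' = w := lin_eq_of_roots hb6 fun a ha =>
    (bruhat_unique (f := 0) hw' hw (one_mem _) (one_mem _) (by simp) a ha).1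
  subst e
  have h3 := det_dvd (γ ∘ₗ w') (fun v v' => by simp only [LinearMap.comp_apply, γ_b, hw.iso])
    (fun v hv => γ_R (hw.root v hv)) (by
      show γ (w' ρ0) 0 % 3 = 2
      rw [hx, γ_apply]
      simp [ρ0])
  exact (card_dvd_det _ (Odd.of_dvd_nat (by decide) h3) Ψ h1 h2).trans h3

end Cfsg.Agent.H9.E6
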