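import Cfsg.Agent.H4.Sl8

/-! Semisimple `p`-subgroups of twisted simply laced groups in characteristic two. -/

set_option autoImplicit false
set_option linter.unusedSectionVars false

namespace Cfsg.Agent.H9.E6

open Cfsg.Agent.H4.Sl Cfsg.Agent.H4.Sl.RS

theorem card_dvd_det {ι : Type} [Fintype ι] [DecidableEq ι] (A : (ι → ℤ) →ₗ[ℤ] (ι → ℤ))
    (hodd : Odd (LinearMap.det A).natAbs) {K : Type*} [Field K] [CharP K 2] {Q : Type*} [Group Q]
    (Ψ : Q →* Multiplicative ((ι → ℤ) →+ Additive Kˣ)) (inj : Function.Injective Ψ)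
    (hA : ∀ y v, (Ψ y).toAdd (A v) = 0) : Nat.card Q ∣ (LinearMap.det A).natAbs := by
  have h0 : LinearMap.det A ≠ 0 := by
    intro h; rw [h] at hodd; simp at hodd
  have hi : Function.Injective A := by
    rw [← LinearMap.ker_eq_bot]
    by_contra h
    exact h0 (LinearMap.det_eq_zero_iff_ker_ne_bot.2 h)
  have hc := Submodule.natAbs_det_equiv (LinearMap.range A) (LinearEquiv.ofInjective A hi)
  have e : (LinearMap.range A).subtype ∘ₗ AddMonoidHom.toIntLinearMap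
      ((LinearEquiv.ofInjective A hi : (ι → ℤ) ≃ₗ[ℤ] LinearMap.range A) : (ι → ℤ) →+ LinearMap.range A) = A :=
    LinearMap.ext fun v => rfl
  rw [e] at hc
  rw [hc] at hodd ⊢
  set F := (ι → ℤ) ⧸ LinearMap.range A
  have : Finite F := Nat.finite_of_card_ne_zero (by intro h; rw [h] at hodd; simp at hodd)
  have : NeZero ((Monoid.exponent (Multiplicative F) : ℕ) : K) := ⟨fun h => by
    rw [CharP.cast_eq_zero_iff K 2] at h
    have h1 := h.trans (Group.exponent_dvd_nat_card (G := Multiplicative F))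
    exact (Nat.not_even_iff_odd.2 hodd) (even_iff_two_dvd.2 h1)⟩
  let φ : Kˣ →* (AlgebraicClosure K)ˣ := Units.map (algebraMap K (AlgebraicClosure K)).toMonoidHom
  have hφ : Function.Injective φ := Units.map_injective (algebraMap K (AlgebraicClosure K)).injective
  let Ψ' : Q →* (Multiplicative (ι → ℤ) →* (AlgebraicClosure K)ˣ) :=
    MonoidHom.mk' (fun y => φ.comp (AddMonoidHom.toMultiplicativeLeft (Ψ y).toAdd)) fun y z => by
      ext v; simp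
  have hΨ' : Function.Injective Ψ' := fun y z h => inj (by
    ext1
    refine AddMonoidHom.ext fun v => ?_
    exact hφ (DFunLike.congr_fun h (Multiplicative.ofAdd v)))
  let mk : Multiplicative (ι → ℤ) →* Multiplicative F :=
    AddMonoidHom.toMultiplicative (LinearMap.range A).mkQ.toAddMonoidHom
  have hmk : Function.Surjective mk := (LinearMap.range A).mkQ_surjective
  let ρ : (Multiplicative F →* (AlgebraicClosure K)ˣ) →* (Multiplicative (ι → ℤ) →* (AlgebraicClosure K)ˣ) :=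
    MonoidHom.compHom' mk
  have hρ : Function.Injective ρ := fun a b h => MonoidHom.ext fun x => by
    obtain ⟨v, rfl⟩ := hmk x
    exact DFunLike.congr_fun h v
  have hle : Ψ'.range ≤ ρ.range := by
    rintro _ ⟨y, rfl⟩
    have hk : mk.ker ≤ (Ψ' y).ker := fun v hv => by
      obtain ⟨u, hu⟩ : v.toAdd ∈ LinearMap.range A := (Submodule.Quotient.mk_eq_zero _).1 hv
      show φ ((Ψ y).toAdd v.toAdd).toMul = 1
      rw [← hu, hA]; simp
    exact ⟨mk.liftOfSurjective hmk ⟨Ψ' y, hk⟩, MonoidHom.ext fun v =>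
      mk.liftOfRightInverse_comp_apply _ (Function.rightInverse_surjInv hmk) ⟨Ψ' y, hk⟩ v⟩
  have h1 := Subgroup.card_dvd_of_le hle
  rwa [← Nat.card_congr (MonoidHom.ofInjective hΨ').toEquiv, ← Nat.card_congr (MonoidHom.ofInjective hρ).toEquiv,
    CommGroup.card_monoidHom_of_hasEnoughRootsOfUnity] at h1

variable {ι Φ : Type} [Fintype ι] [DecidableEq ι] [Fintype Φ] [DecidableEq Φ] {S : RS ι Φ}
variable {K : Type*} [Field K] [CharP K 2]

theorem fus {f : (ι → ℤ) →+ ℤ} {t t' u u' u1 u2 n : Γ ι Φ K} {χ χ' ψ : (ι → ℤ) → K}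
    {w : (ι → ℤ) →ₗ[ℤ] (ι → ℤ)} (h : S.Mon t LinearMap.id χ) (h' : S.Mon t' LinearMap.id χ') (hw : S.Mon n w ψ)
    (hu : u ∈ S.Up K f) (hu' : u' ∈ S.Up K f) (h1 : u1 ∈ S.Up K f) (h2 : u2 ∈ S.Up K f)
    (e : (u1 * n * u2) * (t * u) = (t' * u') * (u1 * n * u2)) {a : ι → ℤ} (ha : S.R a) : χ a = χ' (w a) := by
  have key := bruhat_unique (f := f) (hw.mul h) (h'.mul hw) (u := (t⁻¹ * u2 * t⁻¹⁻¹) * u * u2⁻¹)
    (u' := u1⁻¹ * (t' * (u' * u1) * t'⁻¹))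
    (mul_mem (mul_mem (h.inv_id.conjU (fun r h _ => h) h2) hu) (inv_mem h2))
    (mul_mem (inv_mem h1) (h'.conjU (fun r h _ => h) (mul_mem hu' h1))) (by
      calc n * t * (t⁻¹ * u2 * t⁻¹⁻¹ * u * u2⁻¹) = u1⁻¹ * ((u1 * n * u2) * (t * u)) * u2⁻¹ := by group
        _ = _ := by rw [e]; group) a ha
  have := key.2
  simp only [LinearMap.id_apply] at this
  rw [mul_comm] at this
  exact mul_left_cancel₀ (hw.χne a) this

variable (S) in
def Ch (f : (ι → ℤ) →+ ℤ) (g : Γ ι Φ K) (ψ : (ι → ℤ) →+ Additive Kˣ) : Prop :=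
  ∃ t χ, ∃ h : S.Mon t LinearMap.id χ, ∃ u ∈ S.Up K f, g = t * u ∧ ψ = h.ψ

theorem Ch.uniq (hb : ∀ i, S.R (Pi.single i 1)) {f : (ι → ℤ) →+ ℤ} {g : Γ ι Φ K} {ψ ψ' : (ι → ℤ) →+ Additive Kˣ}
    (h : Ch S f g ψ) (h' : Ch S f g ψ') : ψ = ψ' := by
  obtain ⟨t, χ, h, u, hu, e, rfl⟩ := h
  obtain ⟨t', χ', h', u', hu', e', rfl⟩ := h'
  refine add_ext hb fun a ha => ?_
  have := (bruhat_unique (f := f) h h' (mul_mem hu (inv_mem hu')) (one_mem _)
    (by rw [← mul_assoc, ← e, e']; group) a ha).2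
  simp [Mon.ψ, this]

theorem Ch.mul {f : (ι → ℤ) →+ ℤ} {g g' : Γ ι Φ K} {ψ ψ' : (ι → ℤ) →+ Additive Kˣ}
    (h : Ch S f g ψ) (h' : Ch S f g' ψ') : Ch S f (g * g') (ψ + ψ') := by
  obtain ⟨t, χ, h, u, hu, rfl, rfl⟩ := h
  obtain ⟨t', χ', h', u', hu', rfl, rfl⟩ := h'
  refine ⟨t * t', _, h.mul h', t'⁻¹ * u * t'⁻¹⁻¹ * u', mul_mem (h'.inv_id.conjU (fun r h _ => h) hu) hu',
    by group, AddMonoidHom.ext fun v => ?_⟩
  simp only [Mon.ψ, AddMonoidHom.add_apply, AddMonoidHom.mk'_apply, ← ofMul_mul]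
  congr 1; ext; simp [mul_comm]

theorem Ch.zero {f : (ι → ℤ) →+ ℤ} {g : Γ ι Φ K} (h : Ch S f g 0) : g ∈ S.Up K f := by
  obtain ⟨t, χ, h, u, hu, rfl, e⟩ := h
  have : t = 1 := h.eq Mon.one (fun _ => rfl) fun a _ => by
    simpa using (h.ψ_eq 1 0 a a).mp (by simp [← e])
  rwa [this, one_mul]

variable [Finite K]

theorem idx_B {f : (ι → ℤ) →+ ℤ} (hf : S.Gen f) (hb : ∀ i, S.R (Pi.single i 1)) {p : ℕ}
    [hp : Fact p.Prime] {ζ : K} (hζ : ζ ^ p = 1) (hζ1 : ζ ≠ 1)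
    (hW : ∀ n : Γ ι Φ K, ∀ w χ, S.Mon n w χ → (w : Module.End ℤ (ι → ℤ)) ^ p = 1 → w = LinearMap.id) :
    ¬ p ∣ ((S.BK K f).subgroupOf (S.U K Set.univ)).index := by
  set C := S.U K Set.univ
  have hTC : S.TK K ≤ C := fun t ht => NK_le ht.1
  let B' := (S.BK K f).subgroupOf C
  let N' := (S.NK K).subgroupOf C
  have hP : IsPGroup p ((S.Tp K p).subgroupOf C) := (isPGroup_Tp p).comap_subtype
  have h1 := hP.card_modEq_card_fixedPoints (C ⧸ B')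
  have hT : ∀ n ∈ S.NK K, ∀ t ∈ S.TK K, n⁻¹ * t * n ∈ S.TK K := by
    rintro n hn t ⟨h1, χ, h2⟩
    obtain ⟨w, ψ, hw⟩ := isNK.mon n hn
    exact ⟨mul_mem (mul_mem (inv_mem hn) h1) hn, _, ((hw.inv.mul h2).mul hw).congr (fun v => hw.wi_w v)
      (fun _ => rfl)⟩
  have h2 : MulAction.fixedPoints ((S.Tp K p).subgroupOf C) (C ⧸ B') =
      MulAction.orbit N' ((1 : C) : C ⧸ B') := by
    ext q
    obtain ⟨c, rfl⟩ := QuotientGroup.mk_surjective q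
    constructor
    · intro h
      obtain ⟨n, hn, h3⟩ := fixB hf hζ hζ1 c.2 fun t ht => by
        have h4 : (((⟨t, hTC (Tp_le ht)⟩ * c : C)) : C ⧸ B') = c := h ⟨⟨t, hTC (Tp_le ht)⟩, ht⟩
        rw [eq_comm, QuotientGroup.eq] at h4
        have h5 : (c : Γ ι Φ K)⁻¹ * (t * c) ∈ S.BK K f := h4
        rwa [mul_assoc]
      refine ⟨⟨⟨n, NK_le hn⟩, hn⟩, ?_⟩
      show (((⟨n, NK_le hn⟩ * 1 : C)) : C ⧸ B') = c
      rw [mul_one, eq_comm, QuotientGroup.eq]; exact h3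
    · rintro ⟨⟨n, hn⟩, h⟩ ⟨t, ht⟩
      have h3 : ((n * 1 : C) : C ⧸ B') = c := h
      rw [← h3, mul_one]
      show ((t * n : C) : C ⧸ B') = n
      rw [eq_comm, QuotientGroup.eq]
      have := T_le_B (f := f) (hT n hn t (Tp_le ht))
      show (n : Γ ι Φ K)⁻¹ * (t * n) ∈ S.BK K f
      rwa [← mul_assoc]
  have h3 : ¬ p ∣ Nat.card (MulAction.orbit N' ((1 : C) : C ⧸ B')) := by
    rw [Nat.card_congr (MulAction.orbitEquivQuotientStabilizer N' ((1 : C) : C ⧸ B'))]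
    have hst : ∀ n : N', n ∈ MulAction.stabilizer N' ((1 : C) : C ⧸ B') ↔ ((n : C) : Γ ι Φ K) ∈ S.TK K := by
      intro n
      have : n ∈ MulAction.stabilizer N' ((1 : C) : C ⧸ B') ↔ ((1 : C) : C ⧸ B') = ((n * 1 : C) : C ⧸ B') :=
        eq_comm
      rw [this, QuotientGroup.eq, inv_one, one_mul, mul_one]
      exact ⟨fun h => N_inf_B hb n.2 h, fun h => T_le_B h⟩
    have : (MulAction.stabilizer N' ((1 : C) : C ⧸ B')).Normal := ⟨fun t ht n => by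
      rw [hst] at ht ⊢
      have := hT _ (inv_mem n.2) _ ht
      simpa using this⟩
    intro hd
    obtain ⟨q, hq⟩ := exists_prime_orderOf_dvd_card' p hd
    obtain ⟨n, rfl⟩ := QuotientGroup.mk_surjective q
    obtain ⟨w, χ, hw⟩ := isNK.mon _ n.2
    have h4 : ((n ^ p : N') : N' ⧸ MulAction.stabilizer N' ((1 : C) : C ⧸ B')) = 1 := by
      rw [QuotientGroup.mk_pow, ← hq, pow_orderOf_eq_one]
    rw [QuotientGroup.eq_one_iff, hst] at h4
    obtain ⟨_, χ', h5⟩ := h4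
    obtain ⟨χ'', h6⟩ := hw.pow p
    have h7 := lin_eq_of_roots hb fun a ha =>
      (bruhat_unique (f := f) h6 h5 (one_mem _) (one_mem _) (by simp) a ha).1
    have h8 := hW _ w χ hw h7
    have h9 : (n : N' ⧸ MulAction.stabilizer N' ((1 : C) : C ⧸ B')) = 1 := by
      rw [QuotientGroup.eq_one_iff, hst]; exact ⟨n.2, χ, h8 ▸ hw⟩
    rw [h9, orderOf_one] at hq
    exact hp.out.one_lt.ne hq
  rw [h2] at h1
  exact fun h => h3 ((Nat.modEq_zero_iff_dvd.mp (h1.symm.trans (Nat.modEq_zero_iff_dvd.mpr h))))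

theorem tw_bound (hb : ∀ i, S.R (Pi.single i 1)) {f : (ι → ℤ) →+ ℤ} (hf : S.Gen f) {p : ℕ}
    [hp : Fact p.Prime] (hp2 : p ≠ 2) {ζ : K} (hζ : ζ ^ p = 1) (hζ1 : ζ ≠ 1)
    (hW : ∀ n : Γ ι Φ K, ∀ w χ, S.Mon n w χ → (w : Module.End ℤ (ι → ℤ)) ^ p = 1 → w = LinearMap.id)
    {π : Γ ι Φ K} {γ : (ι → ℤ) →ₗ[ℤ] (ι → ℤ)} (hπ : S.Mon π γ fun _ => 1) (hγ : ∀ v, γ (γ v) = v)
    (hγf : ∀ r, S.R r → 0 < f r → 0 < f (γ r)) {N : Subgroup (Γ ι Φ K)} (hN : S.IsN N)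
    {Q : Type*} [Group Q] (hQ : IsPGroup p Q) (j : Q →* Γ ι Φ K) (hj : Function.Injective j)
    (hQU : ∀ y, j y ∈ S.U K Set.univ) (hfix : ∀ y, π * FrΓ (frobenius K 2) (j y) * π⁻¹ = j y) :
    ∃ n ∈ N, ∃ w χ, S.Mon n w χ ∧ ∃ Ψ : Q →* Multiplicative ((ι → ℤ) →+ Additive Kˣ),
      Function.Injective Ψ ∧ ∀ y v, (Ψ y).toAdd (((2 : ℤ) • (γ ∘ₗ w) - LinearMap.id : (ι → ℤ) →ₗ[ℤ] (ι → ℤ)) v) = 0 := by
  set C := S.U K Set.univ
  have hP : IsPGroup p (j.range.subgroupOf C) := (hQ.of_surjective _ j.rangeRestrict_surjective).comap_subtype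
  obtain ⟨q, hq⟩ := hP.nonempty_fixed_point_of_prime_not_dvd_card (C ⧸ (S.BK K f).subgroupOf C)
    (idx_B hf hb hζ hζ1 hW)
  obtain ⟨⟨c, hcC⟩, rfl⟩ := QuotientGroup.mk_surjective q
  have hc : ∀ y, c⁻¹ * j y * c ∈ S.BK K f := fun y => by
    have h2 : ((⟨j y, hQU y⟩ * ⟨c, hcC⟩ : C) : C ⧸ (S.BK K f).subgroupOf C) = (⟨c, hcC⟩ : C) :=
      hq ⟨⟨j y, hQU y⟩, ⟨y, rfl⟩⟩
    rw [eq_comm, QuotientGroup.eq] at h2
    have h5 : c⁻¹ * (j y * c) ∈ S.BK K f := h2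
    rwa [mul_assoc]
  have hch : ∀ y, ∃ ψ, Ch S f (c⁻¹ * j y * c) ψ := fun y => by
    obtain ⟨t, ⟨-, χ, h⟩, u, hu, e⟩ := hc y
    exact ⟨_, t, χ, h, u, hu, e, rfl⟩
  choose ψ hψ using hch
  have hz : (π * FrΓ (frobenius K 2) c * π⁻¹)⁻¹ * c ∈ C :=
    mul_mem (inv_mem (hπ.conjU (fun _ _ _ => Set.mem_univ _) (FrΓ_U _ hcC))) hcC
  obtain ⟨u1, h1, n, hn, u2, h2, e1⟩ := bruhat hf hN hz (one_mem _)
  rw [mul_one] at e1
  obtain ⟨w, χn, hw⟩ := hN.mon n hn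
  refine ⟨n, hn, w, χn, hw, MonoidHom.mk' (fun y => Multiplicative.ofAdd (ψ y)) fun y z => ?_, ?_, fun y v => ?_⟩
  · rw [← ofAdd_add]
    congr 1
    refine (hψ _).uniq hb ?_
    have := (hψ y).mul (hψ z)
    rwa [show c⁻¹ * j y * c * (c⁻¹ * j z * c) = c⁻¹ * j (y * z) * c by
      rw [map_mul]; group] at this
  · rw [injective_iff_map_eq_one]
    intro y hy
    have h3 : ψ y = 0 := hy
    have h4 := hψ y
    rw [h3] at h4
    obtain ⟨k, hk⟩ := isPGroup_Up f ⟨_, h4.zero⟩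
    obtain ⟨l, hl⟩ := hQ y
    have h5 : (c⁻¹ * j y * c) ^ 2 ^ k = 1 := congrArg Subtype.val hk
    have h6 : y ^ 2 ^ k = 1 := hj (by
      have := conj_pow (a := c⁻¹) (b := j y) (i := 2 ^ k)
      rw [inv_inv, h5] at this
      rw [map_pow, map_one]
      calc j y ^ 2 ^ k = c * (c⁻¹ * j y ^ 2 ^ k * c) * c⁻¹ := by group
        _ = 1 := by rw [← this]; group)
    have h7 := Nat.dvd_gcd (orderOf_dvd_of_pow_eq_one h6) (orderOf_dvd_of_pow_eq_one hl)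
    rwa [Nat.Coprime.gcd_eq_one (Nat.Coprime.pow _ _ ((Nat.coprime_primes Nat.prime_two hp.out).2 hp2.symm)),
      Nat.dvd_one, orderOf_eq_one_iff] at h7
  · obtain ⟨t, χ, h, u, hu, e, e'⟩ := hψ y
    have h3 : S.Mon (π * FrΓ (frobenius K 2) t * π⁻¹) LinearMap.id fun v => χ (γ v) ^ 2 := by
      have h4 : ∀ v, hπ.wi v = γ v := fun v => by rw [← hγ v, hπ.wi_w, hγ]
      exact ((hπ.mul (h.map (frobenius K 2))).mul hπ.inv).congr (fun v => hπ.w_wi v) fun v => by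
        simp [h4, frobenius_def]
    have h4 : π * FrΓ (frobenius K 2) u * π⁻¹ ∈ S.Up K f := hπ.conjU (fun r h hr => hγf r hr h) (FrΓ_U _ hu)
    have h5 : ∀ a, S.R a → χ a = χ (γ (w a)) ^ 2 := fun a ha => fus h h3 hw hu h4 h1 h2 (by
      rw [← e1, ← e]
      calc _ = (π * FrΓ (frobenius K 2) c * π⁻¹)⁻¹ * j y * c := by group
        _ = π * FrΓ (frobenius K 2) (c⁻¹ * j y * c) * π⁻¹ *
            ((π * FrΓ (frobenius K 2) c * π⁻¹)⁻¹ * c) := by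
          rw [map_mul, map_mul, map_inv]
          conv_lhs => rw [← hfix y]
          group
        _ = _ := by rw [e, map_mul]; group) ha
    have h6 : h.ψ = (2 • h.ψ).comp (γ ∘ₗ w).toAddMonoidHom := add_ext hb fun a ha => by
      simpa using (h.ψ_eq 1 2 a (γ (w a))).mpr (by rw [pow_one]; exact h5 a ha)
    have h7 := DFunLike.congr_fun h6 v
    show ψ y _ = 0
    rw [e', LinearMap.sub_apply, map_sub, LinearMap.smul_apply, map_zsmul, LinearMap.id_apply, h7, sub_eq_zero]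
    rfl

end Cfsg.Agent.H9.E6
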